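import Groth.Agent.Sga3.H790.HeightOneField
import Mathlib.RingTheory.MvPolynomial.Ideal
import Mathlib.RingTheory.Flat.Stability
import Mathlib.RingTheory.IntegralClosure.Algebra.Basic
import Mathlib.RingTheory.TensorProduct.Finite
import Mathlib.RingTheory.FinitePresentation
import Mathlib.RingTheory.IntegralClosure.IsIntegralClosure.Basic
import Mathlib.Algebra.CharP.Algebra

/-!
# Height one flat group schemes over a local ring of characteristic `p`
-/

set_option autoImplicit false

namespace Groth.Agent.Sga3.H790.HeightOneLocal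

open TensorProduct Groth.Agent.Sga3.H790.InvDer Groth.Agent.Sga3.H790.HeightOneField

/-- exponents all `< p` -/
abbrev Exps (n p : ℕ) : Type := {m : Fin n →₀ ℕ // ∀ i, m i < p}

section General

variable {R A : Type*} [CommRing R] [CommRing A] [Algebra R A]

theorem monomial_mem {n p : ℕ} (m : Fin n →₀ ℕ) (a : R) (hm : ¬ ∀ i, m i < p) :
    MvPolynomial.monomial m a ∈ Ideal.span (Set.range fun i : Fin n =>
      (MvPolynomial.X i : MvPolynomial (Fin n) R) ^ p) := by
  push Not at hm
  obtain ⟨i, hi⟩ := hm
  have h1 : m = Finsupp.single i p + (m - Finsupp.single i p) := by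
    rw [add_tsub_cancel_of_le]
    rw [Finsupp.single_le_iff]
    exact hi
  have h2 : MvPolynomial.monomial m a = MvPolynomial.X i ^ p *
      MvPolynomial.monomial (m - Finsupp.single i p) a := by
    conv_lhs => rw [h1]
    rw [MvPolynomial.X_pow_eq_monomial, MvPolynomial.monomial_mul, one_mul]
  rw [h2]
  exact Ideal.mul_mem_right _ _ (Ideal.subset_span ⟨i, rfl⟩)

theorem aeval_eq_zero_of_mem {n p : ℕ} (x : Fin n → A) (hx : ∀ i, x i ^ p = 0)
    (f : MvPolynomial (Fin n) R)
    (hf : f ∈ Ideal.span (Set.range fun i : Fin n =>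
      (MvPolynomial.X i : MvPolynomial (Fin n) R) ^ p)) : MvPolynomial.aeval x f = 0 := by
  have : Ideal.span (Set.range fun i : Fin n =>
      (MvPolynomial.X i : MvPolynomial (Fin n) R) ^ p) ≤
      RingHom.ker (MvPolynomial.aeval (R := R) x) := by
    rw [Ideal.span_le]
    rintro _ ⟨i, rfl⟩
    simp [RingHom.mem_ker, hx]
  exact this hf

/-- The monomials of exponents `< p`. -/
noncomputable def mon {n : ℕ} (p : ℕ) (R : Type*) [CommRing R] {A : Type*} [CommRing A]
    [Algebra R A] (x : Fin n → A) (m : Exps n p) : A :=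
  MvPolynomial.aeval x (MvPolynomial.monomial m.1 (1 : R))

theorem sum_filter_add {n : ℕ} (p : ℕ) (f : MvPolynomial (Fin n) R) :
    f = ∑ m ∈ f.support.subtype (fun m => ∀ i, m i < p),
        MvPolynomial.monomial m.1 (f.coeff m.1) +
      ∑ m ∈ f.support.filter (fun m => ¬ ∀ i, m i < p), MvPolynomial.monomial m (f.coeff m) := by
  classical
  conv_lhs => rw [← f.support_sum_monomial_coeff]
  rw [← Finset.sum_filter_add_sum_filter_not f.support (fun m => ∀ i, m i < p)]
  congr 1
  exact (Finset.sum_subtype_eq_sum_filter (s := f.support) (p := fun m => ∀ i, m i < p)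
    (fun m => MvPolynomial.monomial m (f.coeff m))).symm

theorem sum_not_mem {n : ℕ} (p : ℕ) (f : MvPolynomial (Fin n) R) :
    ∑ m ∈ f.support.filter (fun m => ¬ ∀ i, m i < p), MvPolynomial.monomial m (f.coeff m) ∈
      Ideal.span (Set.range fun i : Fin n =>
        (MvPolynomial.X i : MvPolynomial (Fin n) R) ^ p) := by
  refine Ideal.sum_mem _ fun m hm => monomial_mem m _ ?_
  exact (Finset.mem_filter.mp hm).2

theorem aeval_monomial_eq {n p : ℕ} (x : Fin n → A) (m : Exps n p) (a : R) :
    MvPolynomial.aeval x (MvPolynomial.monomial m.1 a) = a • mon p R x m := by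
  rw [mon, ← map_smul, MvPolynomial.smul_monomial, smul_eq_mul, mul_one]

theorem aeval_eq_sum {n p : ℕ} (x : Fin n → A) (hx : ∀ i, x i ^ p = 0)
    (f : MvPolynomial (Fin n) R) : MvPolynomial.aeval x f =
      ∑ m ∈ f.support.subtype (fun m => ∀ i, m i < p), f.coeff m.1 • mon p R x m := by
  conv_lhs => rw [sum_filter_add p f]
  rw [map_add, aeval_eq_zero_of_mem x hx _ (sum_not_mem p f), add_zero, map_sum]
  exact Finset.sum_congr rfl fun m _ => aeval_monomial_eq x m _

/-- If the monomials of exponents `< p` form a "basis", then the algebra is truncated polynomial. -/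
theorem nonempty_algEquiv {n p : ℕ} (x : Fin n → A) (hx : ∀ i, x i ^ p = 0)
    (h : Function.Bijective (Finsupp.linearCombination R (mon p R x))) :
    Nonempty (A ≃ₐ[R] (MvPolynomial (Fin n) R ⧸
      Ideal.span (Set.range fun i : Fin n => (MvPolynomial.X i : MvPolynomial (Fin n) R) ^ p))) := by
  have hli : LinearIndependent R (mon p R x) := h.1
  have hle : ∀ f : MvPolynomial (Fin n) R, f ∈ Ideal.span (Set.range fun i : Fin n =>
      (MvPolynomial.X i : MvPolynomial (Fin n) R) ^ p) → MvPolynomial.aeval x f = 0 :=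
    fun f hf => aeval_eq_zero_of_mem x hx f hf
  let φ : (MvPolynomial (Fin n) R ⧸
      Ideal.span (Set.range fun i : Fin n => (MvPolynomial.X i : MvPolynomial (Fin n) R) ^ p))
      →ₐ[R] A := Ideal.Quotient.liftₐ _ (MvPolynomial.aeval x) hle
  refine ⟨(AlgEquiv.ofBijective φ ⟨?_, ?_⟩).symm⟩
  · rw [injective_iff_map_eq_zero]
    intro q hq
    obtain ⟨f, rfl⟩ := Ideal.Quotient.mk_surjective q
    have h0 : MvPolynomial.aeval x f = 0 := hq
    rw [Ideal.Quotient.eq_zero_iff_mem]
    rw [aeval_eq_sum x hx] at h0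
    have h1 := linearIndependent_iff'.mp hli _ _ h0
    rw [sum_filter_add p f]
    refine Ideal.add_mem _ (Ideal.sum_mem _ fun m hm => ?_) (sum_not_mem p f)
    rw [h1 m hm, map_zero]
    exact Ideal.zero_mem _
  · intro a
    obtain ⟨c, hc⟩ := h.2 a
    refine ⟨Ideal.Quotient.mk _ (c.sum fun m r => MvPolynomial.monomial m.1 r), ?_⟩
    have : φ (Ideal.Quotient.mk _ (c.sum fun m r => MvPolynomial.monomial m.1 r)) =
      MvPolynomial.aeval x (c.sum fun m r => MvPolynomial.monomial m.1 r) := rfl
    rw [this, ← hc, Finsupp.sum, map_sum, Finsupp.linearCombination_apply, Finsupp.sum]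
    exact Finset.sum_congr rfl fun m _ => aeval_monomial_eq x m _

end General

section Loc

variable {R A : Type*} [CommRing R] [CommRing A] [Bialgebra R A]

theorem counit_algebraMap (r : R) :
    Bialgebra.counitAlgHom R A (algebraMap R A r) = r := by
  rw [AlgHom.commutes]; rfl

theorem pow_eq (p : ℕ) [Fact p.Prime] [CharP R p] [Nontrivial R]
    (h1 : ∀ a : A, Bialgebra.counitAlgHom R A a = 0 → a ^ p = 0) (a : A) :
    a ^ p = algebraMap R A (Bialgebra.counitAlgHom R A a ^ p) := by
  have hinj : Function.Injective (algebraMap R A) :=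
    Function.LeftInverse.injective (g := Bialgebra.counitAlgHom R A) counit_algebraMap
  have : CharP A p := charP_of_injective_algebraMap hinj p
  have h2 := h1 (a - algebraMap R A (Bialgebra.counitAlgHom R A a))
    (by rw [map_sub, counit_algebraMap, sub_self])
  rw [sub_pow_char, sub_eq_zero] at h2
  rw [h2, map_pow]

theorem finite_of_heightOne (p : ℕ) [Fact p.Prime] [CharP R p] [Nontrivial R]
    [Algebra.FiniteType R A]
    (h1 : ∀ a : A, Bialgebra.counitAlgHom R A a = 0 → a ^ p = 0) : Module.Finite R A := by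
  have : Algebra.IsIntegral R A := by
    refine ⟨fun a => ?_⟩
    have hp : 0 < p := (Fact.out : p.Prime).pos
    have : IsIntegral R (a ^ p) := by
      rw [pow_eq p h1 a]
      exact isIntegral_algebraMap
    exact this.of_pow hp
  exact Algebra.IsIntegral.finite

theorem heightOne_baseChange (p : ℕ) [Fact p.Prime] [CharP R p] [Nontrivial R]
    (h1 : ∀ a : A, Bialgebra.counitAlgHom R A a = 0 → a ^ p = 0)
    (k : Type*) [CommRing k] [Algebra R k] [CharP k p] [CharP (k ⊗[R] A) p] (b : k ⊗[R] A) :
    b ^ p = algebraMap k (k ⊗[R] A) (Bialgebra.counitAlgHom k (k ⊗[R] A) b ^ p) := by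
  induction b with
  | zero =>
    rw [map_zero, zero_pow (Fact.out : p.Prime).ne_zero, zero_pow (Fact.out : p.Prime).ne_zero,
      map_zero]
  | add b₁ b₂ h₁ h₂ => rw [add_pow_char, h₁, h₂, map_add, add_pow_char, map_add]
  | tmul c a =>
    rw [Algebra.TensorProduct.tmul_pow, pow_eq p h1 a]
    have : Bialgebra.counitAlgHom k (k ⊗[R] A) (c ⊗ₜ a) =
      Bialgebra.counitAlgHom R A a • c := by
      simp
    rw [this, Algebra.TensorProduct.algebraMap_apply, Algebra.algebraMap_self, RingHom.id_apply,
      smul_pow, Algebra.algebraMap_eq_smul_one, TensorProduct.tmul_smul,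
      TensorProduct.smul_tmul']

theorem counit_tmul_lift (k : Type*) [CommRing k] [Algebra R k] (a : A) :
    Bialgebra.counitAlgHom k (k ⊗[R] A) (1 ⊗ₜ a) =
      algebraMap R k (Bialgebra.counitAlgHom R A a) := by
  have : Bialgebra.counitAlgHom k (k ⊗[R] A) (1 ⊗ₜ a) =
      Bialgebra.counitAlgHom R A a • (1 : k) := by
    simp
  rw [this, Algebra.algebraMap_eq_smul_one]

theorem main (p : ℕ) [Fact p.Prime] [IsLocalRing R] [CharP R p] [Algebra.FiniteType R A]
    [Module.Flat R A]
    (h1 : ∀ a : A, Bialgebra.counitAlgHom R A a = 0 → a ^ p = 0) :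
    ∃ n : ℕ, Nonempty (A ≃ₐ[R] (MvPolynomial (Fin n) R ⧸
      Ideal.span (Set.range fun i : Fin n => (MvPolynomial.X i : MvPolynomial (Fin n) R) ^ p))) := by
  have hp : p.Prime := Fact.out
  have hfin : Module.Finite R A := finite_of_heightOne p h1
  let k := IsLocalRing.ResidueField R
  have hk : CharP k p := by
    rw [CharP.charP_iff_prime_eq_zero hp, ← map_natCast (algebraMap R k), CharP.cast_eq_zero,
      map_zero]
  have hnt : Nontrivial (k ⊗[R] A) := by
    refine ⟨0, 1, fun h => ?_⟩
    have := congrArg (Bialgebra.counitAlgHom k (k ⊗[R] A)) h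
    rw [map_zero, map_one] at this
    exact zero_ne_one this
  have hkA : CharP (k ⊗[R] A) p := by
    rw [CharP.charP_iff_prime_eq_zero hp, ← map_natCast (algebraMap k (k ⊗[R] A)),
      CharP.cast_eq_zero, map_zero]
  have h1' : ∀ b : k ⊗[R] A, Bialgebra.counitAlgHom k (k ⊗[R] A) b = 0 → b ^ p = 0 := by
    intro b hb
    rw [heightOne_baseChange p h1 k b, hb, zero_pow hp.ne_zero, map_zero]
  obtain ⟨n, y, hy, hli, hsurj⟩ := exists_generators p h1'
  -- lift the generators
  have hlift : ∀ b : k ⊗[R] A, Bialgebra.counitAlgHom k (k ⊗[R] A) b = 0 →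
      ∃ a : A, Bialgebra.counitAlgHom R A a = 0 ∧ (1 : k) ⊗ₜ[R] a = b := by
    intro b hb
    obtain ⟨a, rfl⟩ := TensorProduct.mk_surjective R A k Ideal.Quotient.mk_surjective b
    refine ⟨a - algebraMap R A (Bialgebra.counitAlgHom R A a),
      by rw [map_sub, counit_algebraMap, sub_self], ?_⟩
    have h2 : algebraMap R k (Bialgebra.counitAlgHom R A a) = 0 := by
      rw [← counit_tmul_lift]; exact hb
    rw [TensorProduct.tmul_sub, Algebra.algebraMap_eq_smul_one, ← TensorProduct.smul_tmul,
      ← Algebra.algebraMap_eq_smul_one, h2, TensorProduct.zero_tmul, sub_zero]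
    rfl
  choose x hx hxy using fun i => hlift (y i) (hy i)
  refine ⟨n, nonempty_algEquiv x (fun i => h1 _ (hx i)) ?_⟩
  apply Module.IsLocalRing.linearCombination_bijective_of_flat
  have hmon : (TensorProduct.mk R k A 1) ∘ mon p R x = mon p k y := by
    funext m
    simp only [Function.comp_apply, mon, MvPolynomial.aeval_monomial, map_one, one_mul]
    change Algebra.TensorProduct.includeRight (R := R) (A := k) (B := A) _ = _
    simp only [Finsupp.prod, map_prod, map_pow]
    exact Finset.prod_congr rfl fun i _ => by rw [← hxy]; rfl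
  rw [hmon]
  constructor
  · change LinearIndependent k (mon p k y)
    rw [linearIndependent_iff']
    intro s g hg m hm
    classical
    have h3 := hli (∑ m ∈ s, MvPolynomial.monomial m.1 (g m)) ?_ ?_
    · have h4 := congrArg (MvPolynomial.coeff m.1) h3
      rw [MvPolynomial.coeff_sum, MvPolynomial.coeff_zero, Finset.sum_eq_single m] at h4
      · rwa [MvPolynomial.coeff_monomial, if_pos rfl] at h4
      · intro m' _ hne
        rw [MvPolynomial.coeff_monomial, if_neg]
        exact fun h => hne (Subtype.ext h)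
      · intro h
        exact absurd hm h
    · intro m' hm' i
      obtain ⟨m'', _, h6⟩ := Finset.mem_biUnion.mp (MvPolynomial.support_sum hm')
      have h7 := MvPolynomial.support_monomial_subset h6
      rw [Finset.mem_singleton] at h7
      rw [h7]
      exact m''.2 i
    · rw [map_sum, ← hg]
      exact Finset.sum_congr rfl fun m _ => aeval_monomial_eq y m _
  · intro b
    obtain ⟨f, rfl⟩ := hsurj b
    rw [aeval_eq_sum y (fun i => h1' _ (hy i)) f]
    rw [← LinearMap.mem_range, Finsupp.range_linearCombination]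
    exact Submodule.sum_mem _ fun m _ => Submodule.smul_mem _ _ (Submodule.subset_span ⟨m, rfl⟩)

end Loc

end Groth.Agent.Sga3.H790.HeightOneLocal
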