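import Groth.Agent.Sga3.H790.InvDer
import Mathlib.RingTheory.Nakayama
import Mathlib.RingTheory.Nilpotent.Basic
import Mathlib.RingTheory.Artinian.Module
import Mathlib.RingTheory.Finiteness.Cardinality
import Mathlib.Algebra.CharP.Lemmas
import Mathlib.LinearAlgebra.FiniteDimensional.Basic

/-!
# Height one bialgebras over a field
-/

set_option autoImplicit false

namespace Groth.Agent.Sga3.H790.HeightOneField

open TensorProduct Groth.Agent.Sga3.H790.InvDer

section Field

variable {k B : Type*} [Field k] [CommRing B] [Bialgebra k B]

local notation "ε" => Bialgebra.counitAlgHom k B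

/-- the augmentation ideal -/
noncomputable abbrev J (k B : Type*) [Field k] [CommRing B] [Bialgebra k B] : Ideal B :=
  RingHom.ker (Bialgebra.counitAlgHom k B)

/-- projection to the augmentation ideal -/
noncomputable def proj (k B : Type*) [Field k] [CommRing B] [Bialgebra k B] :
    B →ₗ[k] J k B where
  toFun b := ⟨b - algebraMap k B (Bialgebra.counitAlgHom k B b), by
    rw [RingHom.mem_ker, map_sub, AlgHom.commutes, sub_eq_zero]; rfl⟩
  map_add' a b := by
    apply Subtype.ext
    simp only [map_add, Submodule.coe_add]
    ring
  map_smul' c b := by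
    apply Subtype.ext
    rw [RingHom.id_apply, Submodule.coe_smul_of_tower]
    simp only [Algebra.smul_def, map_mul, AlgHom.commutes]
    rw [mul_sub]
    rfl

theorem coe_proj (b : B) : (proj k B b : B) = b - algebraMap k B (ε b) := rfl

/-- point derivation attached to a functional on the cotangent space -/
noncomputable def pointDer (f : (J k B).Cotangent →ₗ[k] k) : B →ₗ[k] k :=
  f ∘ₗ ((J k B).toCotangent.restrictScalars k) ∘ₗ (proj k B)

theorem pointDer_def (f : (J k B).Cotangent →ₗ[k] k) (b : B) :
    pointDer f b = f ((J k B).toCotangent (proj k B b)) := rfl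

theorem pointDer_apply (f : (J k B).Cotangent →ₗ[k] k) (b : B) (h : ε b = 0) :
    pointDer f b = f ((J k B).toCotangent ⟨b, h⟩) := by
  rw [pointDer_def]
  congr 2
  apply Subtype.ext
  rw [coe_proj, h, map_zero, sub_zero]

theorem pointDer_mul (f : (J k B).Cotangent →ₗ[k] k) (a b : B) :
    pointDer f (a * b) = ε a * pointDer f b + ε b * pointDer f a := by
  have key : (J k B).toCotangent (proj k B (a * b) - ((ε a) • proj k B b + (ε b) • proj k B a))
      = 0 := by
    rw [Ideal.toCotangent_eq_zero]
    have : ((proj k B (a * b) - ((ε a) • proj k B b + (ε b) • proj k B a) : J k B) : B) =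
        (proj k B a : B) * (proj k B b : B) := by
      rw [AddSubgroupClass.coe_sub, Submodule.coe_add, Submodule.coe_smul_of_tower,
        Submodule.coe_smul_of_tower]
      simp only [coe_proj, Algebra.smul_def, map_mul]
      ring
    rw [this, pow_two]
    exact Ideal.mul_mem_mul (proj k B a).2 (proj k B b).2
  have h2 : pointDer f (a * b) - (ε a • pointDer f b + ε b • pointDer f a) =
      f (((J k B).toCotangent.restrictScalars k)
        (proj k B (a * b) - ((ε a) • proj k B b + (ε b) • proj k B a))) := by
    simp only [map_sub, map_add, map_smul]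
    rfl
  rw [LinearMap.coe_restrictScalars, key, map_zero, sub_eq_zero] at h2
  exact h2

/-- Main field case: finite-dimensional bialgebra of height one. -/
theorem exists_generators (p : ℕ) [Fact p.Prime] [CharP k p] [Module.Finite k B]
    (h1 : ∀ a : B, ε a = 0 → a ^ p = 0) :
    ∃ (n : ℕ) (x : Fin n → B), (∀ i, ε (x i) = 0) ∧
      (∀ f : MvPolynomial (Fin n) k, (∀ m ∈ f.support, ∀ i, m i < p) →
        MvPolynomial.aeval x f = 0 → f = 0) ∧
      Function.Surjective (MvPolynomial.aeval (R := k) x) := by
  have hp : p ≠ 0 := (Fact.out : p.Prime).ne_zero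
  have hnt : Nontrivial B := by
    refine ⟨0, 1, fun h => ?_⟩
    have := congrArg ε h
    rw [map_zero, map_one] at this
    exact zero_ne_one this
  have : IsNoetherianRing B := isNoetherian_of_isNoetherianRing_of_finite k B |> fun h =>
    isNoetherian_of_tower k h
  have : Module.Finite B (J k B) := Module.IsNoetherian.finite B (J k B)
  have : Module.Finite k (J k B).Cotangent := by
    have : Module.Finite B (J k B).Cotangent :=
      Module.Finite.of_surjective _ (J k B).toCotangent_surjective
    exact Module.Finite.trans B _
  set n := Module.finrank k (J k B).Cotangent with hn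
  let bas : Module.Basis (Fin n) k (J k B).Cotangent := Module.finBasis k (J k B).Cotangent
  choose y hy using fun i => (J k B).toCotangent_surjective (bas i)
  let x : Fin n → B := fun i => y i
  have hx : ∀ i, ε (x i) = 0 := fun i => (y i).2
  -- the invariant derivations
  let D : Fin n → Derivation k B B := fun i => invDer (pointDer (bas.coord i)) (pointDer_mul _)
  have hD : ∀ i j, ε (D i (x j)) = if i = j then 1 else 0 := by
    intro i j
    rw [counit_invDer, pointDer_apply _ _ (hx j)]
    have : (⟨x j, hx j⟩ : J k B) = y j := rfl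
    rw [this, hy, Module.Basis.coord_apply, Module.Basis.repr_self, Finsupp.single_apply]
    simp only [eq_comm]
  have hnil : ∀ b ∈ J k B, IsNilpotent b := fun b hb => ⟨p, h1 b hb⟩
  have hdet : IsUnit (Matrix.of fun i j => D i (x j)).det := by
    have h2 : ε (Matrix.of fun i j => D i (x j)).det = 1 := by
      rw [AlgHom.map_det]
      have : (Bialgebra.counitAlgHom k B).mapMatrix (Matrix.of fun i j => D i (x j)) = 1 := by
        ext i j
        rw [AlgHom.mapMatrix_apply, Matrix.map_apply, Matrix.of_apply, hD, Matrix.one_apply]
      rw [this, Matrix.det_one]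
    have h3 : (Matrix.of fun i j => D i (x j)).det - 1 ∈ J k B := by
      rw [RingHom.mem_ker, map_sub, map_one, h2, sub_self]
    have h4 := IsNilpotent.isUnit_one_add (hnil _ h3)
    rwa [add_sub_cancel] at h4
  obtain ⟨E, hE⟩ := exists_dual_derivations D x hdet
  refine ⟨n, x, hx, fun f hf h0 => eq_zero_of_aeval_eq_zero p x E hE _ f le_rfl hf h0, ?_⟩
  -- surjectivity
  have hspan : J k B = Ideal.span (Set.range x) := by
    apply le_antisymm
    · apply Submodule.le_of_le_smul_of_le_jacobson_bot (I := J k B) (IsNoetherian.noetherian _)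
      · intro b hb
        exact Ideal.radical_le_jacobson (hnil b hb)
      · intro b hb
        have h5 := bas.sum_repr ((J k B).toCotangent ⟨b, hb⟩)
        set c := bas.repr ((J k B).toCotangent ⟨b, hb⟩) with hc
        have h6 : (J k B).toCotangent (⟨b, hb⟩ - ∑ i, c i • y i) = 0 := by
          have : (J k B).toCotangent (∑ i, c i • y i) = ∑ i, c i • bas i := by
            rw [map_sum]
            refine Finset.sum_congr rfl fun i _ => ?_
            rw [← hy]
            exact ((J k B).toCotangent.restrictScalars k).map_smul _ _
          rw [map_sub, this, h5, sub_self]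
        rw [Ideal.toCotangent_eq_zero, pow_two] at h6
        have h7 : ((∑ i, c i • y i : J k B) : B) ∈ Ideal.span (Set.range x) := by
          rw [AddSubmonoidClass.coe_finsetSum]
          refine Ideal.sum_mem _ fun i _ => ?_
          rw [Submodule.coe_smul_of_tower]
          exact Submodule.smul_of_tower_mem _ _ (Ideal.subset_span ⟨i, rfl⟩)
        have h8 : b = ((∑ i, c i • y i : J k B) : B) +
            ((⟨b, hb⟩ - ∑ i, c i • y i : J k B) : B) := by
          rw [AddSubgroupClass.coe_sub]
          ring
        rw [h8]
        exact Submodule.add_mem_sup h7 h6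
    · rw [Ideal.span_le]
      rintro _ ⟨i, rfl⟩
      exact hx i
  rw [← AlgHom.range_eq_top]
  set S := (MvPolynomial.aeval (R := k) x).range with hS
  have hxS : ∀ i, x i ∈ S := fun i => ⟨MvPolynomial.X i, MvPolynomial.aeval_X x i⟩
  let a : Ideal S := Ideal.span (Set.range fun i => (⟨x i, hxS i⟩ : S))
  have ha : a ≤ Ideal.jacobson ⊥ := by
    rw [Ideal.span_le]
    rintro _ ⟨i, rfl⟩
    apply Ideal.radical_le_jacobson
    refine ⟨p, ?_⟩
    rw [Ideal.mem_bot]
    apply Subtype.ext
    exact h1 _ (hx i)
  have hfin : Module.Finite S B := Module.Finite.of_restrictScalars_finite k S B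
  have htop : (⊤ : Submodule S B) ≤ LinearMap.range (Algebra.linearMap S B) := by
    apply Submodule.le_of_le_smul_of_le_jacobson_bot hfin.fg_top ha
    intro b _
    have hb : (proj k B b : B) ∈ Ideal.span (Set.range x) := by
      rw [← hspan]; exact (proj k B b).2
    rw [Ideal.mem_span_range_iff_exists_fun] at hb
    obtain ⟨c, hc⟩ := hb
    have hb2 : b = algebraMap k B (ε b) + ∑ i, c i * x i := by
      rw [hc, coe_proj]; ring
    rw [hb2]
    apply Submodule.add_mem_sup
    · exact ⟨algebraMap k S (ε b), rfl⟩
    · refine Submodule.sum_mem _ fun i _ => ?_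
      have : c i * x i = (⟨x i, hxS i⟩ : S) • c i := by
        rw [mul_comm]; rfl
      rw [this]
      exact Submodule.smul_mem_smul (Ideal.subset_span ⟨i, rfl⟩) trivial
  rw [eq_top_iff]
  intro b _
  obtain ⟨s, hs⟩ := htop (show b ∈ (⊤ : Submodule S B) from trivial)
  rw [← hs]
  exact s.2

end Field

end Groth.Agent.Sga3.H790.HeightOneField
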