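import Mathlib.RingTheory.Bialgebra.TensorProduct
import Mathlib.RingTheory.Derivation.Basic
import Mathlib.RingTheory.Ideal.Cotangent
import Mathlib.RingTheory.LocalRing.Module
import Mathlib.Algebra.MvPolynomial.PDeriv
import Mathlib.LinearAlgebra.Matrix.NonsingularInverse

/-!
# Invariant derivations of a bialgebra

From a point derivation `d : B → k` at the counit we build the derivation `(id ⊗ d) ∘ Δ` of `B`.
We also study the kernel of `k[X] → B` for a family `x` in `B` admitting "partial derivatives".
-/

set_option autoImplicit false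

namespace Groth.Agent.Sga3.H790.InvDer

open TensorProduct

section Der

variable {k B : Type*} [CommRing k] [CommRing B] [Bialgebra k B]

local notation "ε" => Bialgebra.counitAlgHom k B

theorem T_mul (d : B →ₗ[k] k)
    (hd : ∀ a b : B, d (a * b) = ε a * d b + ε b * d a)
    (u v : B ⊗[k] B) :
    (TensorProduct.rid k B) (d.lTensor B (u * v)) =
      (TensorProduct.rid k B) ((Coalgebra.counit (R := k) (A := B)).lTensor B u) *
        (TensorProduct.rid k B) (d.lTensor B v) +
      (TensorProduct.rid k B) ((Coalgebra.counit (R := k) (A := B)).lTensor B v) *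
        (TensorProduct.rid k B) (d.lTensor B u) := by
  induction u with
  | zero => simp
  | add u₁ u₂ h₁ h₂ => simp only [add_mul, map_add, h₁, h₂]; ring
  | tmul a b =>
    induction v with
    | zero => simp
    | add v₁ v₂ h₁ h₂ => simp only [mul_add, add_mul, map_add, h₁, h₂]; ring
    | tmul a' b' =>
      simp only [Algebra.TensorProduct.tmul_mul_tmul, LinearMap.lTensor_tmul,
        TensorProduct.rid_tmul, hd, Bialgebra.counitAlgHom_apply, Algebra.smul_def, map_add, map_mul]
      ring

/-- The (left) invariant derivation attached to a point derivation at the counit. -/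
noncomputable def invDer (d : B →ₗ[k] k)
    (hd : ∀ a b : B, d (a * b) = ε a * d b + ε b * d a) : Derivation k B B :=
  Derivation.mk' ((TensorProduct.rid k B).toLinearMap ∘ₗ (d.lTensor B) ∘ₗ Coalgebra.comul) (by
    intro a b
    have h := T_mul d hd (Coalgebra.comul a) (Coalgebra.comul b)
    rw [← Bialgebra.comul_mul] at h
    simp only [LinearMap.coe_comp, LinearEquiv.coe_coe, Function.comp_apply, smul_eq_mul]
    rw [h]
    simp only [Coalgebra.lTensor_counit_comul, TensorProduct.rid_tmul, one_smul])

theorem counit_invDer (d : B →ₗ[k] k)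
    (hd : ∀ a b : B, d (a * b) = ε a * d b + ε b * d a) (b : B) :
    ε (invDer d hd b) = d b := by
  have key : ∀ u : B ⊗[k] B, ε ((TensorProduct.rid k B) (d.lTensor B u)) =
      d ((TensorProduct.lid k B) ((Coalgebra.counit (R := k) (A := B)).rTensor B u)) := by
    intro u
    induction u with
    | zero => simp
    | add u₁ u₂ h₁ h₂ => simp only [map_add, h₁, h₂]
    | tmul a b =>
      simp [mul_comm]
  have := key (Coalgebra.comul b)
  rw [Coalgebra.rTensor_counit_comul, TensorProduct.lid_tmul, one_smul] at this
  exact this

end Der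

section Matrix

variable {k B : Type*} [CommRing k] [CommRing B] [Algebra k B]

/-- If derivations `D i` and elements `x j` have invertible Jacobian matrix, then suitable
combinations `E i` satisfy `E i (x j) = δ_ij`. -/
theorem exists_dual_derivations {ι : Type*} [Fintype ι] [DecidableEq ι]
    (D : ι → Derivation k B B) (x : ι → B)
    (h : IsUnit (Matrix.of fun i j => D i (x j)).det) :
    ∃ E : ι → Derivation k B B, ∀ i j, E i (x j) = if i = j then 1 else 0 := by
  set M : Matrix ι ι B := Matrix.of fun i j => D i (x j) with hM
  refine ⟨fun i => ∑ j, M⁻¹ i j • D j, fun i l => ?_⟩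
  have : (M⁻¹ * M) i l = (1 : Matrix ι ι B) i l := by
    rw [Matrix.nonsing_inv_mul M h]
  rw [Matrix.mul_apply, Matrix.one_apply] at this
  rw [← this]
  change (Derivation.coeFnAddMonoidHom (∑ j, M⁻¹ i j • D j)) (x l) = _
  rw [map_sum, Finset.sum_apply]
  rfl

end Matrix

section Kernel

variable {k B : Type*} [Field k] [CommRing B] [Nontrivial B] [Algebra k B]

/-- If `x` has dual derivations, `aeval x` is injective on polynomials all of whose exponents
are `< p`. -/
theorem eq_zero_of_aeval_eq_zero {n : ℕ} (p : ℕ) [Fact p.Prime] [CharP k p] (x : Fin n → B)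
    (E : Fin n → Derivation k B B) (hE : ∀ i j, E i (x j) = if i = j then 1 else 0) :
    ∀ (N : ℕ) (f : MvPolynomial (Fin n) k), f.totalDegree ≤ N →
      (∀ m ∈ f.support, ∀ i, m i < p) → MvPolynomial.aeval x f = 0 → f = 0 := by
  have hcomm : ∀ (i : Fin n) (f : MvPolynomial (Fin n) k),
      E i (MvPolynomial.aeval x f) = MvPolynomial.aeval x (MvPolynomial.pderiv i f) := by
    intro i f
    induction f using MvPolynomial.induction_on with
    | C a => simp
    | add f g hf hg => simp only [map_add, hf, hg]
    | mul_X f j hf =>
      simp only [map_mul, MvPolynomial.aeval_X, Derivation.leibniz, smul_eq_mul, hf, hE,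
        MvPolynomial.pderiv_X, map_add]
      congr 1
      by_cases hij : i = j
      · subst hij; simp
      · rw [if_neg hij, Pi.single_eq_of_ne (Ne.symm hij)]; simp
  have hconst : ∀ f : MvPolynomial (Fin n) k, (∀ m, m ≠ 0 → f.coeff m = 0) →
      MvPolynomial.aeval x f = 0 → f = 0 := by
    intro f hf h0
    have hfC : f = MvPolynomial.C (f.coeff 0) := by
      ext m
      rw [MvPolynomial.coeff_C]
      split_ifs with h
      · rw [← h]
      · exact hf m (Ne.symm h)
    rw [hfC, MvPolynomial.aeval_C] at h0
    have := (algebraMap k B).injective (h0.trans (map_zero _).symm)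
    rw [hfC, this, map_zero]
  intro N
  induction N with
  | zero =>
    intro f hN _ h0
    refine hconst f (fun m hm => ?_) h0
    by_contra hne
    have h1 := MvPolynomial.le_totalDegree (MvPolynomial.mem_support_iff.mpr hne)
    have h2 : (m.sum fun _ e => e) = 0 := by omega
    apply hm
    ext i
    by_contra hi
    have : m i ≤ m.sum fun _ e => e := by
      classical
      rw [Finsupp.sum]
      exact Finset.single_le_sum (f := fun j => m j) (fun _ _ => Nat.zero_le _)
        (Finsupp.mem_support_iff.mpr hi)
    simp at hi
    omega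
  | succ N ih =>
    intro f hN hf h0
    refine hconst f (fun m hm => ?_) h0
    obtain ⟨i, hi⟩ : ∃ i, m i ≠ 0 := by
      by_contra hcon
      push Not at hcon
      exact hm (Finsupp.ext hcon)
    have hcf := fun m' => MvPolynomial.coeff_pderiv (i := i) f m'
    have hsupp : ∀ m' ∈ (MvPolynomial.pderiv i f).support, m' + Finsupp.single i 1 ∈ f.support := by
      intro m' hm'
      rw [MvPolynomial.mem_support_iff] at hm' ⊢
      intro h
      apply hm'
      rw [hcf, h, zero_mul]
    have hg : MvPolynomial.pderiv i f = 0 := by
      apply ih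
      · rw [MvPolynomial.totalDegree, Finset.sup_le_iff]
        intro m' hm'
        have h1 := (MvPolynomial.le_totalDegree (hsupp m' hm')).trans hN
        rw [Finsupp.sum_add_index' (fun _ => rfl) (fun _ _ _ => rfl),
          Finsupp.sum_single_index rfl] at h1
        omega
      · intro m' hm' j
        have := hf _ (hsupp m' hm') j
        rw [Finsupp.add_apply] at this
        omega
      · rw [← hcomm, h0, map_zero]
    by_contra hne
    have h1 := hcf (m - Finsupp.single i 1)
    have h2 : m - Finsupp.single i 1 + Finsupp.single i 1 = m := by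
      apply tsub_add_cancel_of_le
      rw [Finsupp.single_le_iff]
      omega
    rw [hg, MvPolynomial.coeff_zero, h2] at h1
    have h3 : (((m - Finsupp.single i 1 : Fin n →₀ ℕ) i : ℕ) : k) + 1 = ((m i : ℕ) : k) := by
      rw [← Nat.cast_succ]
      congr 1
      rw [Finsupp.tsub_apply, Finsupp.single_eq_same]
      omega
    rw [h3] at h1
    rcases mul_eq_zero.mp h1.symm with h4 | h4
    · exact hne h4
    · rw [CharP.cast_eq_zero_iff k p] at h4
      have h5 := hf m (MvPolynomial.mem_support_iff.mpr hne) i
      exact absurd (Nat.le_of_dvd (Nat.pos_of_ne_zero hi) h4) (not_le.mpr h5)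

end Kernel

end Groth.Agent.Sga3.H790.InvDer
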