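import Groth.Agent.Sga3.H790.RkLoc
import Groth.Agent.Sga3B.DSRigid
import Groth.Agent.Sga3B.DescIso
import Groth.Agent.Sga3B.DsBc
import Groth.Agent.Sga3B.TorusEtLoc920

/-!
# Étale-local splittings for which a given character is constant
-/

set_option autoImplicit false
universe u
open CategoryTheory MonoidalCategory CartesianMonoidalCategory MonObj GrpObj AlgebraicGeometry Limits

namespace Groth.Agent.Sga3.H790.RkFam

open Groth.Agent.Sga3B Groth.Agent.Sga3B.DSPts Groth.Agent.Sga3B.GaPts Groth.Agent.Sga3B.InfConj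
open Groth.Agent.Sga3.H790.RkSys

variable {S : Scheme.{u}} {R : Type u} [CommRing R] {v : Spec (.of R) ⟶ S}
  {M : Type} [AddCommGroup M]

/-- product of points of `D(M)` -/
def mulTP {C : Type u} [CommRing C] (t t' : TP M C) : TP M C := t * t'

lemma eD_mulTP (C : Type u) [CommRing C] [Algebra R C] (t t' : TP M C) :
    eD v C (mulTP t t') = eD v C t * eD v C t' := eD_mul v C t t'

lemma mulTP_apply {C : Type u} [CommRing C] (t t' : TP M C) (m : Multiplicative M) :
    ((mulTP t t' m : Cˣ) : C) = (t m : C) * (t' m : C) := rfl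

/-- Near a point, a family of characters of `D(M)` is constant. -/
theorem exists_const (a : Red.DS S M ⊗ Over.mk v ⟶ Red.Gm S)
    (ha : ∀ (Y : Over S) (x y : Y ⟶ Red.DS S M) (t : Y ⟶ Over.mk v),
      lift (x * y) t ≫ a = (lift x t ≫ a) * (lift y t ≫ a)) (P : Ideal R) [P.IsPrime] :
    ∃ (e : R) (m : M), e ∉ P ∧ ∀ (Y : Over S) (y : Y ⟶ Red.DS S M) (t : Y ⟶ Over.mk v),
      IsUnit (algebraMap R (Fn t) e) → lift y t ≫ a = y ≫ Red.chi S m := by
  classical
  let A : Type u := MonoidAlgebra R (Multiplicative M)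
  let A₂ : Type u := MonoidAlgebra A (Multiplicative M)
  -- the universal point
  let tu : TP M A := (MonoidAlgebra.of R (Multiplicative M)).toHomUnits
  let w : A := (fn v A).symm (Red.gmFn (lift (eD v A tu) (Est v A) ≫ a))
  -- evaluation
  have hev : ∀ {C : Type u} [CommRing C] [Algebra R C] (φ : A →ₐ[R] C) (t : TP M C),
      (∀ m, φ (MonoidAlgebra.single m 1) = t m) →
      Red.gmFn (lift (eD v C t) (Est v C) ≫ a) = fn v C (φ w) := by
    intro C _ _ φ t h
    have h1 : t = TP.map φ.toRingHom tu := by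
      ext m
      exact (h m).symm
    rw [h1, ← comp_eD, ← Emap_Est v φ, ← comp_lift, Category.assoc, gmFn_comp, ← fn_nat]
    congr 1
    exact ((fn v A).apply_symm_apply _).symm
  have hwu : IsUnit w := (isUnit_gmFn _).map (fn v A).symm
  have hdg : dg R (Multiplicative M) w = inc₁ R (Multiplicative M) w * inc₂ R (Multiplicative M) w := by
    let t₁ : TP M A₂ := ((inc₁ R (Multiplicative M)).toMonoidHom.comp
      (MonoidAlgebra.of R (Multiplicative M))).toHomUnits
    let t₂ : TP M A₂ := ((inc₂ R (Multiplicative M)).toMonoidHom.comp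
      (MonoidAlgebra.of R (Multiplicative M))).toHomUnits
    have e1 := hev (inc₁ R (Multiplicative M)) t₁ fun m => rfl
    have e2 := hev (inc₂ R (Multiplicative M)) t₂ fun m => rfl
    have e3 := hev (dg R (Multiplicative M)) (mulTP t₁ t₂) fun m => by
      rw [mulTP_apply]
      change dg R _ (MonoidAlgebra.single m 1) = inc₁ R _ (MonoidAlgebra.single m 1) *
        inc₂ R _ (MonoidAlgebra.single m 1)
      rw [dg_single, inc₁_single, inc₂_single, MonoidAlgebra.single_mul_single, _root_.one_mul,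
        _root_.mul_one]
    apply (fn v A₂).injective
    rw [← e3, eD_mulTP, ha, gmFn_mul, e1, e2, map_mul]
  have key : ∀ γ, MonoidAlgebra.single γ (w.coeff γ) = w.coeff γ • w := by
    intro γ
    rw [← DSRigid.dg_apply_coeff, hdg, DSRigid.inc_mul_apply_coeff]
  -- a coefficient not in `P`
  obtain ⟨γ, hγ⟩ : ∃ γ, w.coeff γ ∉ P := by
    by_contra hne
    push Not at hne
    let π : A →+* MonoidAlgebra (R ⧸ P) (Multiplicative M) :=
      MonoidAlgebra.mapRingHom (Multiplicative M) (Ideal.Quotient.mk P)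
    have h1 : π w = 0 := by
      ext δ
      simp only [π, MonoidAlgebra.coeff_zero, Finsupp.coe_zero, Pi.zero_apply]
      have : (MonoidAlgebra.mapRingHom (Multiplicative M) (Ideal.Quotient.mk P) w).coeff δ =
        Ideal.Quotient.mk P (w.coeff δ) := by simp
      rw [this]
      exact Ideal.Quotient.eq_zero_iff_mem.mpr (hne δ)
    have h2 : IsUnit (π w) := hwu.map π
    rw [h1] at h2
    exact not_isUnit_zero h2
  refine ⟨w.coeff γ, Multiplicative.toAdd γ, hγ, ?_⟩
  intro Y y t hu
  let χ : TP M (Fn t) := MonoidHom.toHomUnits (M := Fn t) (dsChar y)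
  let ψ : A →ₐ[R] Fn t := MonoidAlgebra.lift R (Fn t) (Multiplicative M) (dsChar y : Multiplicative M →* Fn t)
  have hψ : ∀ m, ψ (MonoidAlgebra.single m 1) = χ m := by
    intro m
    exact (MonoidAlgebra.lift_single _ _ _).trans (one_smul _ _)
  have hy : yD t χ = y := by
    rw [yD]
    exact dsEquiv_dsChar y
  have h1 : lift y t ≫ a = can t ≫ lift (eD v (Fn t) χ) (Est v (Fn t)) ≫ a := by
    rw [← Category.assoc, comp_lift, can_eD, can_Est, hy]
  apply gmFn_injective
  rw [h1, gmFn_comp, hev ψ χ hψ]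
  refine (can_fn t _).trans ?_
  rw [gmFn_chi]
  change ψ w = (χ γ : Fn t)
  have h2 := congrArg ψ (key γ)
  rw [map_smul, Algebra.smul_def] at h2
  have h3 : ψ (MonoidAlgebra.single γ (w.coeff γ)) = algebraMap R (Fn t) (w.coeff γ) * (χ γ : Fn t) := by
    have : (MonoidAlgebra.single γ (w.coeff γ) : A) = (w.coeff γ) • MonoidAlgebra.single γ 1 := by
      simp
    rw [this, map_smul, hψ, Algebra.smul_def]
  rw [h3] at h2
  exact (hu.mul_left_cancel h2).symm

end Groth.Agent.Sga3.H790.RkFam
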