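import Groth.Agent.Sga3.H790.RkOpen
import Mathlib.RingTheory.LocalProperties.Basic
import Mathlib.RingTheory.AdjoinRoot
import Mathlib.Algebra.MvPolynomial.Basic
import Mathlib.RingTheory.MvPolynomial.Basic
import Mathlib.RingTheory.Localization.Away.Basic
import Mathlib.Algebra.Polynomial.AlgebraMap

/-!
# The decomposition `p x * q y = q (y b(xy)) * i (t(xy)) * p (x a(xy))`
-/

set_option autoImplicit false

universe u

namespace Groth.Agent.Sga3.H790.RkSys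

variable {R : Type u} [CommRing R] {M : Type} [AddCommGroup M] (𝒮 : Sys R M)
variable {B C : Type u} [CommRing B] [Algebra R B] [CommRing C] [Algebra R C]

theorem TP.map_injective {φ : B →+* C} (hφ : Function.Injective φ) {t s : TP M B}
    (h : TP.map φ t = TP.map φ s) : t = s := by
  ext n
  apply hφ
  have := congrArg (fun z : TP M C => ((z n : Cˣ) : C)) h
  exact this

namespace Sys

/-- the relation "`p x * q y = q β * i τ * p γ`" -/
def Rel (x y β : B) (τ : TP M B) (γ : B) : Prop :=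
  𝒮.p B x * 𝒮.q B y = 𝒮.q B β * 𝒮.i B τ * 𝒮.p B γ

variable {𝒮}

theorem Rel.map (φ : B →ₐ[R] C) {x y β : B} {τ : TP M B} {γ : B} (h : 𝒮.Rel x y β τ γ) :
    𝒮.Rel (φ x) (φ y) (φ β) (TP.map φ.toRingHom τ) (φ γ) := by
  have := congrArg (𝒮.map φ) h
  rwa [map_mul, map_mul, map_mul, 𝒮.map_p, 𝒮.map_q, 𝒮.map_q, 𝒮.map_p, 𝒮.map_i] at this

theorem Rel.unique {x y β β' : B} {τ τ' : TP M B} {γ γ' : B} (h : 𝒮.Rel x y β τ γ)
    (h' : 𝒮.Rel x y β' τ' γ') : β = β' ∧ τ = τ' ∧ γ = γ' :=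
  𝒮.cell_inj B _ _ _ _ _ _ (h.symm.trans h')

theorem Rel.Om {x y β : B} {τ : TP M B} {γ : B} (h : 𝒮.Rel x y β τ γ) :
    𝒮.Om B (𝒮.p B x * 𝒮.q B y) := ⟨β, τ, γ, h⟩

theorem Rel.conj (t : TP M B) {x y β : B} {τ : TP M B} {γ : B} (h : 𝒮.Rel x y β τ γ) :
    𝒮.Rel ((t (Multiplicative.ofAdd 𝒮.m) : B) * x) (((t (Multiplicative.ofAdd 𝒮.m))⁻¹ : Bˣ) * y)
      (((t (Multiplicative.ofAdd 𝒮.m))⁻¹ : Bˣ) * β) τ ((t (Multiplicative.ofAdd 𝒮.m) : B) * γ) := by
  have := congrArg (fun g => 𝒮.i B t * g * (𝒮.i B t)⁻¹) h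
  simp only [𝒮.conj_pq, 𝒮.conj_cell] at this
  exact this

/-- Adjoining a root of a unit. -/
theorem exists_root (lam : M →+ ℤ) {m : M} (hlam : lam m ≠ 0) (y : Bˣ) :
    ∃ (B' : Type u) (_ : CommRing B') (_ : Algebra R B') (φ : B →ₐ[R] B'),
      Function.Injective φ ∧ ∃ t : TP M B', t (Multiplicative.ofAdd m) =
        Units.map φ.toRingHom.toMonoidHom y := by
  obtain ⟨y', s, hy', hs⟩ : ∃ (y' : Bˣ) (s : ℤ), y'^s = y ∧ ((lam m).natAbs : ℤ) * s = lam m := by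
    rcases lt_or_gt_of_ne hlam with h | h
    · exact ⟨y⁻¹, -1, by simp, by omega⟩
    · exact ⟨y, 1, by simp, by omega⟩
  have hn : (lam m).natAbs ≠ 0 := by omega
  set f : Polynomial B := Polynomial.X ^ (lam m).natAbs - Polynomial.C (y' : B) with hf
  have hmon : f.Monic := Polynomial.monic_X_pow_sub_C _ hn
  refine ⟨AdjoinRoot f, inferInstance, inferInstance, IsScalarTower.toAlgHom R B (AdjoinRoot f),
    ?_, ?_⟩
  · rw [injective_iff_map_eq_zero]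
    intro b hb
    by_contra hb0
    have hnt : Nontrivial B := ⟨b, 0, hb0⟩
    have h1 : AdjoinRoot.mk f (Polynomial.C b) = 0 := hb
    rw [AdjoinRoot.mk_eq_zero] at h1
    refine Polynomial.Monic.not_dvd_of_natDegree_lt hmon (Polynomial.C_ne_zero.mpr hb0) ?_ h1
    rw [Polynomial.natDegree_C, hf, Polynomial.natDegree_X_pow_sub_C]
    omega
  · have hroot : (AdjoinRoot.root f) ^ (lam m).natAbs = algebraMap B (AdjoinRoot f) y' := by
      have := AdjoinRoot.eval₂_root f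
      rw [hf, Polynomial.eval₂_sub, Polynomial.eval₂_pow, Polynomial.eval₂_X, Polynomial.eval₂_C,
        sub_eq_zero] at this
      exact this
    have hu : IsUnit (AdjoinRoot.root f) := by
      rw [← isUnit_pow_iff hn, hroot]
      exact y'.isUnit.map _
    refine ⟨cochar lam hu.unit, ?_⟩
    rw [cochar_apply, ← hs, zpow_mul, zpow_natCast]
    have h1 : hu.unit ^ (lam m).natAbs = Units.map (algebraMap B (AdjoinRoot f)).toMonoidHom y' := by
      ext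
      rw [Units.val_pow_eq_pow_val, IsUnit.unit_spec, hroot]
      rfl
    rw [h1, ← map_zpow, hy']
    rfl

theorem Rel.of_unit_right (lam : M →+ ℤ) (hlam : lam 𝒮.m ≠ 0) {x β γ : B} {τ : TP M B} (y : Bˣ)
    (h : 𝒮.Rel x y β τ γ) : 𝒮.Rel (x * y) 1 ((y⁻¹ : Bˣ) * β) τ (y * γ) := by
  obtain ⟨B', _, _, φ, hφ, t, ht⟩ := exists_root (R := R) lam hlam y
  have h1 := (h.map φ).conj t
  rw [ht] at h1
  have hy : ((Units.map φ.toRingHom.toMonoidHom y)⁻¹ : B'ˣ) * φ (y : B) = (1 : B') :=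
    Units.inv_mul (Units.map φ.toRingHom.toMonoidHom y)
  rw [hy] at h1
  have hU : 𝒮.U B (x * y) := (𝒮.Om_pq_iff lam hlam x y).mp h.Om
  obtain ⟨β', τ', γ', h2⟩ := hU
  have h3 := Rel.map φ (show 𝒮.Rel (x * y) 1 β' τ' γ' from h2)
  have e1 : ((Units.map φ.toRingHom.toMonoidHom y : B'ˣ) : B') * φ x = φ (x * y) := by
    rw [map_mul, mul_comm]; rfl
  rw [map_one] at h3
  rw [e1] at h1
  obtain ⟨h4, h5, h6⟩ := h3.unique h1
  have h7 : β' = (y⁻¹ : Bˣ) * β := hφ (by rw [h4, map_mul]; rfl)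
  have h8 : τ' = τ := TP.map_injective hφ h5
  have h9 : γ' = y * γ := hφ (by rw [h6, map_mul]; rfl)
  rw [← h7, ← h8, ← h9]
  exact h2

theorem Rel.of_unit_left (lam : M →+ ℤ) (hlam : lam 𝒮.m ≠ 0) {y β γ : B} {τ : TP M B} (x : Bˣ)
    (h : 𝒮.Rel (x : B) y β τ γ) : 𝒮.Rel 1 (x * y) (x * β) τ ((x⁻¹ : Bˣ) * γ) := by
  obtain ⟨B', _, _, φ, hφ, t, ht⟩ := exists_root (R := R) lam hlam x⁻¹
  have h1 := (h.map φ).conj t
  rw [ht] at h1
  have hx : ((Units.map φ.toRingHom.toMonoidHom x⁻¹ : B'ˣ) : B') * φ (x : B) = (1 : B') := by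
    rw [map_inv]
    exact Units.inv_mul (Units.map φ.toRingHom.toMonoidHom x)
  rw [hx] at h1
  have hU : 𝒮.Om B (𝒮.p B 1 * 𝒮.q B (x * y)) := by
    rw [𝒮.Om_pq_iff lam hlam, one_mul]
    exact (𝒮.Om_pq_iff lam hlam (x : B) y).mp h.Om
  obtain ⟨β', τ', γ', h2⟩ := hU
  have h3 := Rel.map φ (show 𝒮.Rel 1 (x * y) β' τ' γ' from h2)
  have e0 : ((Units.map φ.toRingHom.toMonoidHom x⁻¹)⁻¹ : B'ˣ) =
      Units.map φ.toRingHom.toMonoidHom x := by rw [map_inv, inv_inv]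
  have e1 : ((Units.map φ.toRingHom.toMonoidHom x : B'ˣ) : B') * φ y = φ (x * y) := by
    rw [map_mul]; rfl
  rw [map_one] at h3
  rw [e0, e1] at h1
  obtain ⟨h4, h5, h6⟩ := h3.unique h1
  have h7 : β' = x * β := hφ (by rw [h4, map_mul]; rfl)
  have h8 : τ' = τ := TP.map_injective hφ h5
  have h9 : γ' = (x⁻¹ : Bˣ) * γ := hφ (by rw [h6, map_mul]; rfl)
  rw [← h7, ← h8, ← h9]
  exact h2

end Sys

end Groth.Agent.Sga3.H790.RkSys
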