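import Groth.Agent.Sga3.H790.RkEq
import Mathlib.Algebra.DualNumber

/-!
# Derivatives of natural functions on `U`
-/

set_option autoImplicit false

universe u

namespace Groth.Agent.Sga3.H790.RkSys

section Dual

variable {R : Type u} [CommRing R] {B C : Type u} [CommRing B] [CommRing C] [Algebra R C]

/-- the dual number `a + b ε` -/
def de (a b : B) : DualNumber B := TrivSqZeroExt.inl a + TrivSqZeroExt.inr b

@[simp] theorem fst_de (a b : B) : TrivSqZeroExt.fst (de a b) = a := by simp [de]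

@[simp] theorem snd_de (a b : B) : TrivSqZeroExt.snd (de a b) = b := by simp [de]

theorem de_ext {x y : DualNumber B} (h1 : TrivSqZeroExt.fst x = TrivSqZeroExt.fst y)
    (h2 : TrivSqZeroExt.snd x = TrivSqZeroExt.snd y) : x = y := TrivSqZeroExt.ext h1 h2

theorem eq_de (x : DualNumber B) : x = de (TrivSqZeroExt.fst x) (TrivSqZeroExt.snd x) :=
  de_ext (by simp) (by simp)

theorem de_inj {a b c d : B} : de a b = de c d ↔ a = c ∧ b = d := by
  constructor
  · intro h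
    exact ⟨by simpa using congrArg TrivSqZeroExt.fst h, by simpa using congrArg TrivSqZeroExt.snd h⟩
  · rintro ⟨rfl, rfl⟩; rfl

theorem de_mul (a b c d : B) : de a b * de c d = de (a * c) (a * d + b * c) := by
  apply de_ext
  · simp
  · simp [mul_comm]

theorem de_add (a b c d : B) : de a b + de c d = de (a + c) (b + d) := by
  apply de_ext <;> simp

theorem de_one : (1 : DualNumber B) = de 1 0 := by
  apply de_ext <;> simp

/-- the ring map `a + b ε ↦ φ a + w φ(b) ε` -/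
def dmap [Algebra R B] (φ : B →ₐ[R] C) (w : C) : DualNumber B →ₐ[R] DualNumber C where
  toFun x := de (φ (TrivSqZeroExt.fst x)) (w * φ (TrivSqZeroExt.snd x))
  map_one' := by
    apply de_ext <;> simp
  map_mul' x y := by
    apply de_ext
    · simp
    · simp only [TrivSqZeroExt.fst_mul, map_mul, TrivSqZeroExt.snd_mul, snd_de, fst_de,
        smul_eq_mul, MulOpposite.smul_eq_mul_unop, MulOpposite.unop_op, map_add]
      ring
  map_zero' := by
    apply de_ext <;> simp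
  map_add' x y := by
    apply de_ext
    · simp
    · simp [mul_add]
  commutes' r := by
    apply de_ext
    · simp only [fst_de]
      change φ (algebraMap R B r) = algebraMap R C r
      exact φ.commutes r
    · simp only [snd_de]
      change w * φ 0 = 0
      rw [map_zero, mul_zero]

theorem dmap_de [Algebra R B] (φ : B →ₐ[R] C) (w : C) (a b : B) :
    dmap φ w (de a b) = de (φ a) (w * φ b) := by
  change de (φ (TrivSqZeroExt.fst (de a b))) (w * φ (TrivSqZeroExt.snd (de a b))) = _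
  rw [fst_de, snd_de]

/-- reduction modulo `ε` -/
def dfst (R : Type u) [CommRing R] (B : Type u) [CommRing B] [Algebra R B] :
    DualNumber B →ₐ[R] B := TrivSqZeroExt.fstHom R B B

theorem dfst_apply [Algebra R B] (x : DualNumber B) : dfst R B x = TrivSqZeroExt.fst x := rfl

/-- the inclusion -/
def dinl (R : Type u) [CommRing R] (B : Type u) [CommRing B] [Algebra R B] :
    B →ₐ[R] DualNumber B := TrivSqZeroExt.inlAlgHom R B B

theorem dinl_apply [Algebra R B] (x : B) : dinl R B x = de x 0 := by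
  apply de_ext <;> simp [dinl]

end Dual

variable {R : Type u} [CommRing R] {M : Type} [AddCommGroup M] {𝒮 : Sys R M}
variable {B C : Type u} [CommRing B] [Algebra R B] [CommRing C] [Algebra R C]

namespace Sys

theorem U_de {a b : B} (h : 𝒮.U B a) : 𝒮.U (DualNumber B) (de a b) := by
  apply 𝒮.U_of_nil (dfst R B)
  · intro b; exact ⟨de b 0, by simp [dfst_apply]⟩
  · intro x hx
    refine ⟨2, ?_⟩
    rw [dfst_apply] at hx
    rw [eq_de x, hx, pow_two, de_mul]
    apply de_ext <;> simp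
  · rwa [dfst_apply, fst_de]

/-- naturality of a family of functions on `U` -/
def IsNat (𝒮 : Sys R M) (f : ∀ (B : Type u) [CommRing B] [Algebra R B], B → B) : Prop :=
  ∀ {B C : Type u} [CommRing B] [Algebra R B] [CommRing C] [Algebra R C] (φ : B →ₐ[R] C) (x : B),
    𝒮.U B x → φ (f B x) = f C (φ x)

/-- derivative of a natural function -/
def der (f : ∀ (B : Type u) [CommRing B] [Algebra R B], B → B) (B : Type u) [CommRing B]
    [Algebra R B] (x : B) : B := TrivSqZeroExt.snd (f (DualNumber B) (de x 1))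

theorem IsNat.apply_de {f : ∀ (B : Type u) [CommRing B] [Algebra R B], B → B} (hf : 𝒮.IsNat f)
    {x : B} (hx : 𝒮.U B x) (w : B) :
    f (DualNumber B) (de x w) = de (f B x) (w * der f B x) := by
  have h1 : f (DualNumber B) (de x 1) = de (f B x) (der f B x) := by
    apply de_ext
    · rw [fst_de, ← dfst_apply (R := R), hf (dfst R B) _ (U_de hx), dfst_apply, fst_de]
    · rw [snd_de]; rfl
  have h2 := hf (dmap (AlgHom.id R B) w) _ (U_de (b := 1) hx)
  rw [h1, dmap_de, dmap_de] at h2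
  simp only [AlgHom.id_apply, mul_one] at h2
  exact h2.symm

theorem IsNat.map_der {f : ∀ (B : Type u) [CommRing B] [Algebra R B], B → B} (hf : 𝒮.IsNat f)
    (φ : B →ₐ[R] C) {x : B} (hx : 𝒮.U B x) : φ (der f B x) = der f C (φ x) := by
  have h2 := hf (dmap φ 1) _ (U_de (b := 1) hx)
  rw [hf.apply_de hx, dmap_de, dmap_de, map_one, one_mul, one_mul,
    hf.apply_de (𝒮.U_map φ hx), de_inj] at h2
  have := h2.2
  simpa using this

theorem isNat_bf : 𝒮.IsNat (fun B _ _ => 𝒮.bf B) := fun φ _ h => map_bf φ h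

theorem isNat_af (lam : M →+ ℤ) (hlam : lam 𝒮.m ≠ 0) : 𝒮.IsNat (fun B _ _ => 𝒮.af B) :=
  fun φ _ h => map_af lam hlam φ h

/-- derivative of `bf` -/
noncomputable def db (𝒮 : Sys R M) (B : Type u) [CommRing B] [Algebra R B] (x : B) : B :=
  der (R := R) (fun B _ _ => 𝒮.bf B) B x

/-- derivative of `af` -/
noncomputable def da (𝒮 : Sys R M) (B : Type u) [CommRing B] [Algebra R B] (x : B) : B :=
  der (R := R) (fun B _ _ => 𝒮.af B) B x

theorem bf_de {x : B} (hx : 𝒮.U B x) (w : B) :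
    𝒮.bf (DualNumber B) (de x w) = de (𝒮.bf B x) (w * 𝒮.db B x) :=
  IsNat.apply_de (f := fun B _ _ => 𝒮.bf B) isNat_bf hx w

theorem af_de (lam : M →+ ℤ) (hlam : lam 𝒮.m ≠ 0) {x : B} (hx : 𝒮.U B x) (w : B) :
    𝒮.af (DualNumber B) (de x w) = de (𝒮.af B x) (w * 𝒮.da B x) :=
  IsNat.apply_de (f := fun B _ _ => 𝒮.af B) (isNat_af lam hlam) hx w

theorem map_db (φ : B →ₐ[R] C) {x : B} (hx : 𝒮.U B x) : φ (𝒮.db B x) = 𝒮.db C (φ x) :=
  IsNat.map_der (f := fun B _ _ => 𝒮.bf B) isNat_bf φ hx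

theorem map_da (lam : M →+ ℤ) (hlam : lam 𝒮.m ≠ 0) (φ : B →ₐ[R] C) {x : B} (hx : 𝒮.U B x) :
    φ (𝒮.da B x) = 𝒮.da C (φ x) :=
  IsNat.map_der (f := fun B _ _ => 𝒮.af B) (isNat_af lam hlam) φ hx

/-- the constant `κ` -/
noncomputable def kap (𝒮 : Sys R M) : R := - 𝒮.db R 0

/-- the constant `κ'` -/
noncomputable def kap' (𝒮 : Sys R M) : R := - 𝒮.da R 0

theorem db_zero : 𝒮.db B 0 = - algebraMap R B 𝒮.kap := by
  have := map_db (𝒮 := 𝒮) (Algebra.ofId R B) (x := 0) 𝒮.U_zero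
  rw [map_zero] at this
  rw [← this, kap, map_neg, neg_neg]
  rfl

theorem da_zero (lam : M →+ ℤ) (hlam : lam 𝒮.m ≠ 0) :
    𝒮.da B 0 = - algebraMap R B 𝒮.kap' := by
  have := map_da (𝒮 := 𝒮) lam hlam (Algebra.ofId R B) (x := 0) 𝒮.U_zero
  rw [map_zero] at this
  rw [← this, kap', map_neg, neg_neg]
  rfl

variable (lam : M →+ ℤ) (hlam : lam 𝒮.m ≠ 0)

include hlam

/-- D1 -/
theorem db_eq {v : B} (hv : 𝒮.U B v) :
    𝒮.db B v = - (algebraMap R B 𝒮.kap * 𝒮.bf B v ^ 2) := by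
  have h0 : 𝒮.bf (DualNumber B) (de v 0) = de (𝒮.bf B v) 0 := by rw [bf_de hv, zero_mul]
  have hu : (de 0 1 : DualNumber B) * 𝒮.bf (DualNumber B) (de v 0) = de 0 (𝒮.bf B v) := by
    rw [h0, de_mul, de_inj]; constructor <;> ring
  obtain ⟨-, h1, -⟩ := eqI (𝒮 := 𝒮) lam hlam (B := DualNumber B) (u := de 0 1) (v := de v 0)
    (U_de hv) (by rw [hu]; exact U_de 𝒮.U_zero)
  rw [hu, h0, de_add, zero_add, add_zero, bf_de hv, bf_de 𝒮.U_zero, bf_zero lam hlam, de_mul,
    de_inj, db_zero] at h1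
  rw [← one_mul (𝒮.db B v), h1.2]
  ring

/-- D2 -/
theorem db_eq' {u : B} (hu : 𝒮.U B u) :
    (1 + algebraMap R B 𝒮.kap * u) * 𝒮.db B u = - (algebraMap R B 𝒮.kap * 𝒮.bf B u) := by
  have h0 : 𝒮.bf (DualNumber B) (de 0 1) = de 1 (- algebraMap R B 𝒮.kap) := by
    rw [bf_de 𝒮.U_zero, bf_zero lam hlam, db_zero, one_mul]
  have hm : (de u 0 : DualNumber B) * 𝒮.bf (DualNumber B) (de 0 1) =
      de u (- (u * algebraMap R B 𝒮.kap)) := by
    rw [h0, de_mul, de_inj]; constructor <;> ring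
  obtain ⟨-, h1, -⟩ := eqI (𝒮 := 𝒮) lam hlam (B := DualNumber B) (u := de u 0) (v := de 0 1)
    (U_de 𝒮.U_zero) (by rw [hm]; exact U_de hu)
  rw [hm, h0, de_add, zero_add, add_zero, bf_de hu, bf_de hu, de_mul, de_inj] at h1
  have h2 := h1.2
  linear_combination h2

/-- D1 for `af` -/
theorem da_eq {v : B} (hv : 𝒮.U B v) :
    𝒮.da B v = - (algebraMap R B 𝒮.kap' * 𝒮.af B v ^ 2) := by
  have h0 : 𝒮.af (DualNumber B) (de v 0) = de (𝒮.af B v) 0 := by
    rw [af_de lam hlam hv, zero_mul]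
  have hu : (de 0 1 : DualNumber B) * 𝒮.af (DualNumber B) (de v 0) = de 0 (𝒮.af B v) := by
    rw [h0, de_mul, de_inj]; constructor <;> ring
  obtain ⟨-, h1, -⟩ := eqII (𝒮 := 𝒮) lam hlam (B := DualNumber B) (u := de 0 1) (v := de v 0)
    (U_de hv) (by rw [hu]; exact U_de 𝒮.U_zero)
  rw [hu, h0, de_add, zero_add, add_zero, af_de lam hlam hv, af_de lam hlam 𝒮.U_zero,
    af_zero lam hlam, de_mul, de_inj, da_zero lam hlam] at h1
  rw [← one_mul (𝒮.da B v), h1.2]
  ring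

/-- D2 for `af` -/
theorem da_eq' {u : B} (hu : 𝒮.U B u) :
    (1 + algebraMap R B 𝒮.kap' * u) * 𝒮.da B u = - (algebraMap R B 𝒮.kap' * 𝒮.af B u) := by
  have h0 : 𝒮.af (DualNumber B) (de 0 1) = de 1 (- algebraMap R B 𝒮.kap') := by
    rw [af_de lam hlam 𝒮.U_zero, af_zero lam hlam, da_zero lam hlam, one_mul]
  have hm : (de u 0 : DualNumber B) * 𝒮.af (DualNumber B) (de 0 1) =
      de u (- (u * algebraMap R B 𝒮.kap')) := by
    rw [h0, de_mul, de_inj]; constructor <;> ring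
  obtain ⟨-, h1, -⟩ := eqII (𝒮 := 𝒮) lam hlam (B := DualNumber B) (u := de u 0) (v := de 0 1)
    (U_de 𝒮.U_zero) (by rw [hm]; exact U_de hu)
  rw [hm, h0, de_add, zero_add, add_zero, af_de lam hlam hu, af_de lam hlam hu, de_mul,
    de_inj] at h1
  have h2 := h1.2
  linear_combination h2

/-- D3 -/
theorem chi_inv_eq {v : B} (hv : 𝒮.U B v) :
    (((𝒮.chi (𝒮.tf B v))⁻¹ : Bˣ) : B) = 𝒮.af B v + v * 𝒮.da B v := by
  have h0 : 𝒮.bf (DualNumber B) (de v 0) = de (𝒮.bf B v) 0 := by rw [bf_de hv, zero_mul]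
  have hu : (de 0 1 : DualNumber B) * 𝒮.bf (DualNumber B) (de v 0) = de 0 (𝒮.bf B v) := by
    rw [h0, de_mul, de_inj]; constructor <;> ring
  obtain ⟨-, -, -, h1⟩ := eqI (𝒮 := 𝒮) lam hlam (B := DualNumber B) (u := de 0 1) (v := de v 0)
    (U_de hv) (by rw [hu]; exact U_de 𝒮.U_zero)
  have hchi : (((𝒮.chi (𝒮.tf (DualNumber B) (de v 0)))⁻¹ : (DualNumber B)ˣ) : DualNumber B) =
      de (((𝒮.chi (𝒮.tf B v))⁻¹ : Bˣ) : B) 0 := by
    have h2 := map_tf (dinl R B) hv
    rw [dinl_apply] at h2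
    rw [← h2, ← dinl_apply (R := R)]
    have : 𝒮.chi (TP.map (dinl R B).toRingHom (𝒮.tf B v)) =
        Units.map (dinl R B).toRingHom.toMonoidHom (𝒮.chi (𝒮.tf B v)) := rfl
    rw [this, ← map_inv]
    rfl
  rw [hchi, hu, de_add, zero_add, add_zero, af_de lam hlam hv, af_de lam hlam 𝒮.U_zero,
    af_de lam hlam hv, af_zero lam hlam, de_mul, de_mul, de_mul, de_mul, de_add, de_inj] at h1
  have h2 := h1.2
  linear_combination -h2

/-- D3 for the other side -/
theorem chi_inv_eq' {v : B} (hv : 𝒮.U B v) :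
    (((𝒮.chi (𝒮.tf B v))⁻¹ : Bˣ) : B) = 𝒮.bf B v + v * 𝒮.db B v := by
  have h0 : 𝒮.af (DualNumber B) (de v 0) = de (𝒮.af B v) 0 := by
    rw [af_de lam hlam hv, zero_mul]
  have hu : (de 0 1 : DualNumber B) * 𝒮.af (DualNumber B) (de v 0) = de 0 (𝒮.af B v) := by
    rw [h0, de_mul, de_inj]; constructor <;> ring
  obtain ⟨-, -, h1⟩ := eqII (𝒮 := 𝒮) lam hlam (B := DualNumber B) (u := de 0 1) (v := de v 0)
    (U_de hv) (by rw [hu]; exact U_de 𝒮.U_zero)
  have hchi : (((𝒮.chi (𝒮.tf (DualNumber B) (de v 0)))⁻¹ : (DualNumber B)ˣ) : DualNumber B) =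
      de (((𝒮.chi (𝒮.tf B v))⁻¹ : Bˣ) : B) 0 := by
    have h2 := map_tf (dinl R B) hv
    rw [dinl_apply] at h2
    rw [← h2, ← dinl_apply (R := R)]
    have : 𝒮.chi (TP.map (dinl R B).toRingHom (𝒮.tf B v)) =
        Units.map (dinl R B).toRingHom.toMonoidHom (𝒮.chi (𝒮.tf B v)) := rfl
    rw [this, ← map_inv]
    rfl
  rw [hchi, hu, de_add, zero_add, add_zero, bf_de hv, bf_de 𝒮.U_zero,
    bf_de hv, bf_zero lam hlam, de_mul, de_mul, de_mul, de_mul, de_add, de_inj] at h1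
  have h2 := h1.2
  linear_combination -h2

end Sys

end Groth.Agent.Sga3.H790.RkSys
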