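import Groth.Agent.Sga3.H790.RkFull

/-!
# Functional equations of a rank one system
-/

set_option autoImplicit false

universe u

namespace Groth.Agent.Sga3.H790.RkSys

variable {R : Type u} [CommRing R] {M : Type} [AddCommGroup M] {𝒮 : Sys R M}
variable {B C : Type u} [CommRing B] [Algebra R B] [CommRing C] [Algebra R C]

namespace Sys

/-- the character `m` of a torus point, as an element of `Bˣ` -/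
def chi (𝒮 : Sys R M) (t : TP M B) : Bˣ := t (Multiplicative.ofAdd 𝒮.m)

theorem chi_mul (t s : TP M B) : 𝒮.chi (t * s) = 𝒮.chi t * 𝒮.chi s := rfl

theorem p_mul_i (z : B) (s : TP M B) :
    𝒮.p B z * 𝒮.i B s = 𝒮.i B s * 𝒮.p B (((𝒮.chi s)⁻¹ : Bˣ) * z) := by
  rw [𝒮.ip]
  congr 2
  rw [chi, Units.mul_inv_cancel_left]

theorem bf_zero (lam : M →+ ℤ) (hlam : lam 𝒮.m ≠ 0) : 𝒮.bf B 0 = 1 := by
  have h1 : 𝒮.Rel (0 : B) 1 1 1 0 := by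
    rw [Rel, 𝒮.p_zero, map_one]; group
  have h2 := rel_full (𝒮 := 𝒮) lam hlam (x := (0 : B)) (y := 1) (by rw [zero_mul]; exact 𝒮.U_zero)
  have h3 := (h2.unique h1).1
  rwa [zero_mul, one_mul] at h3

theorem tf_zero (lam : M →+ ℤ) (hlam : lam 𝒮.m ≠ 0) : 𝒮.tf B 0 = 1 := by
  have h1 : 𝒮.Rel (0 : B) 1 1 1 0 := by
    rw [Rel, 𝒮.p_zero, map_one]; group
  have h2 := rel_full (𝒮 := 𝒮) lam hlam (x := (0 : B)) (y := 1) (by rw [zero_mul]; exact 𝒮.U_zero)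
  have h3 := (h2.unique h1).2.1
  rwa [zero_mul] at h3

theorem af_zero (lam : M →+ ℤ) (hlam : lam 𝒮.m ≠ 0) : 𝒮.af B 0 = 1 := by
  have h1 : 𝒮.Rel (1 : B) 0 0 1 1 := by
    rw [Rel, 𝒮.q_zero, map_one]; group
  have h2 := rel_full (𝒮 := 𝒮) lam hlam (x := (1 : B)) (y := 0) (by rw [mul_zero]; exact 𝒮.U_zero)
  have h3 := (h2.unique h1).2.2
  rwa [mul_zero, one_mul] at h3

theorem rel_one_right (lam : M →+ ℤ) (hlam : lam 𝒮.m ≠ 0) {v : B} (hv : 𝒮.U B v) :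
    𝒮.Rel v 1 (𝒮.bf B v) (𝒮.tf B v) (v * 𝒮.af B v) := by
  have := rel_full (𝒮 := 𝒮) lam hlam (x := v) (y := 1) (by rwa [mul_one])
  rwa [mul_one, one_mul] at this

theorem rel_one_left (lam : M →+ ℤ) (hlam : lam 𝒮.m ≠ 0) {v : B} (hv : 𝒮.U B v) :
    𝒮.Rel 1 v (v * 𝒮.bf B v) (𝒮.tf B v) (𝒮.af B v) := by
  have := rel_full (𝒮 := 𝒮) lam hlam (x := 1) (y := v) (by rwa [one_mul])
  rwa [one_mul, one_mul] at this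

/-- first set of functional equations -/
theorem eqI (lam : M →+ ℤ) (hlam : lam 𝒮.m ≠ 0) {u v : B} (hv : 𝒮.U B v)
    (hu : 𝒮.U B (u * 𝒮.bf B v)) :
    𝒮.U B (u + v) ∧ 𝒮.bf B (u + v) = 𝒮.bf B v * 𝒮.bf B (u * 𝒮.bf B v) ∧
      𝒮.tf B (u + v) = 𝒮.tf B (u * 𝒮.bf B v) * 𝒮.tf B v ∧
      (u + v) * 𝒮.af B (u + v) = ((𝒮.chi (𝒮.tf B v))⁻¹ : Bˣ) * (u * 𝒮.af B (u * 𝒮.bf B v)) +
        v * 𝒮.af B v := by
  have h1 := rel_one_right lam hlam hv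
  have h2 := rel_full lam hlam hu
  have h3 : 𝒮.Rel (u + v) 1 (𝒮.bf B v * 𝒮.bf B (u * 𝒮.bf B v))
      (𝒮.tf B (u * 𝒮.bf B v) * 𝒮.tf B v)
      (((𝒮.chi (𝒮.tf B v))⁻¹ : Bˣ) * (u * 𝒮.af B (u * 𝒮.bf B v)) + v * 𝒮.af B v) := by
    rw [Rel] at h1 h2 ⊢
    rw [𝒮.p_add, mul_assoc, h1, 𝒮.p_add, 𝒮.i_mul]
    calc 𝒮.p B u * (𝒮.q B (𝒮.bf B v) * 𝒮.i B (𝒮.tf B v) * 𝒮.p B (v * 𝒮.af B v))
        = (𝒮.p B u * 𝒮.q B (𝒮.bf B v)) * 𝒮.i B (𝒮.tf B v) * 𝒮.p B (v * 𝒮.af B v) := by group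
      _ = 𝒮.q B (𝒮.bf B v * 𝒮.bf B (u * 𝒮.bf B v)) * 𝒮.i B (𝒮.tf B (u * 𝒮.bf B v)) *
            (𝒮.p B (u * 𝒮.af B (u * 𝒮.bf B v)) * 𝒮.i B (𝒮.tf B v)) * 𝒮.p B (v * 𝒮.af B v) := by
          rw [h2]; group
      _ = _ := by rw [p_mul_i]; group
  have hU : 𝒮.U B (u + v) := h3.Om
  obtain ⟨e1, e2, e3⟩ := (rel_one_right lam hlam hU).unique h3
  exact ⟨hU, e1, e2, e3⟩

/-- second set of functional equations -/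
theorem eqII (lam : M →+ ℤ) (hlam : lam 𝒮.m ≠ 0) {u v : B} (hv : 𝒮.U B v)
    (hu : 𝒮.U B (u * 𝒮.af B v)) :
    𝒮.U B (u + v) ∧ 𝒮.af B (u + v) = 𝒮.af B v * 𝒮.af B (u * 𝒮.af B v) ∧
      (u + v) * 𝒮.bf B (u + v) = ((𝒮.chi (𝒮.tf B v))⁻¹ : Bˣ) * (u * 𝒮.bf B (u * 𝒮.af B v)) +
        v * 𝒮.bf B v := by
  have h1 := rel_one_left lam hlam hv
  have h2 := rel_full (𝒮 := 𝒮) lam hlam (x := 𝒮.af B v) (y := u) (by rwa [mul_comm])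
  rw [mul_comm (𝒮.af B v) u] at h2
  have h3 : 𝒮.Rel 1 (u + v)
      (((𝒮.chi (𝒮.tf B v))⁻¹ : Bˣ) * (u * 𝒮.bf B (u * 𝒮.af B v)) + v * 𝒮.bf B v)
      (𝒮.tf B v * 𝒮.tf B (u * 𝒮.af B v))
      (𝒮.af B v * 𝒮.af B (u * 𝒮.af B v)) := by
    rw [Rel] at h1 h2 ⊢
    rw [add_comm u v, 𝒮.q_add, ← mul_assoc, h1, add_comm, 𝒮.q_add, 𝒮.i_mul]
    calc 𝒮.q B (v * 𝒮.bf B v) * 𝒮.i B (𝒮.tf B v) * 𝒮.p B (𝒮.af B v) * 𝒮.q B u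
        = 𝒮.q B (v * 𝒮.bf B v) * 𝒮.i B (𝒮.tf B v) * (𝒮.p B (𝒮.af B v) * 𝒮.q B u) := by group
      _ = 𝒮.q B (v * 𝒮.bf B v) * (𝒮.i B (𝒮.tf B v) * 𝒮.q B (u * 𝒮.bf B (u * 𝒮.af B v))) *
            𝒮.i B (𝒮.tf B (u * 𝒮.af B v)) * 𝒮.p B (𝒮.af B v * 𝒮.af B (u * 𝒮.af B v)) := by
          rw [h2]; group
      _ = _ := by rw [𝒮.iq, chi]; group
  have hU : 𝒮.U B (u + v) := by
    have := h3.Om
    rwa [𝒮.Om_pq_iff lam hlam, one_mul] at this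
  obtain ⟨e1, -, e3⟩ := (rel_one_left lam hlam hU).unique h3
  exact ⟨hU, e3, e1⟩

end Sys

end Groth.Agent.Sga3.H790.RkSys
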