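import Groth.Agent.Sga3B.InfConjFam
import Groth.Agent.Sga3B.GaPts
import Groth.Agent.Sga3B.RepDescent6
import Groth.Agent.Sga3B.DSRigid
import Mathlib.Algebra.DualNumber

/-!
# Families of solutions of the rank one formula

For `X : Over S`, `RFam i α pp pm X a β` says that the pair `(a : X ⟶ 𝔾_m, β : 𝔾_m × X ⟶ T)` satisfies
the rank one commutation formula over `X`.  Such a pair is unique, hence pairs glue étale-locally.
-/

set_option autoImplicit false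
universe u
open CategoryTheory MonoidalCategory CartesianMonoidalCategory MonObj GrpObj AlgebraicGeometry Limits

namespace Groth.Agent.Sga3.H790.RkFam

open Groth.Agent.Sga3B Groth.Agent.Sga3B.DSPts Groth.Agent.Sga3B.GaPts Groth.Agent.Sga3B.InfConj

section gm

variable {S : Scheme.{u}}

/-- The `Y`-point of `𝔾_m` given by a unit. -/
noncomputable def gmPt (Y : Over S) (z : Γ(Y.left, ⊤)ˣ) : Y ⟶ Red.Gm S :=
  dsEquiv Y ℤ ((Units.coeHom _).comp (zpowersHom _ z))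

@[simp] lemma gmFn_gmPt (Y : Over S) (z : Γ(Y.left, ⊤)ˣ) : Red.gmFn (gmPt Y z) = z := by
  rw [gmFn_eq, gmPt, dsChar_dsEquiv]
  simp

lemma gmFn_injective {Y : Over S} {z z' : Y ⟶ Red.Gm S} (h : Red.gmFn z = Red.gmFn z') : z = z' := by
  rw [← dsEquiv_dsChar z, ← dsEquiv_dsChar z']
  congr 1
  rw [gmFn_eq, gmFn_eq] at h
  apply MonoidHom.ext_mint
  exact h

lemma gmFn_mul {Y : Over S} (z z' : Y ⟶ Red.Gm S) :
    Red.gmFn (z * z') = Red.gmFn z * Red.gmFn z' := by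
  rw [gmFn_eq, gmFn_eq, gmFn_eq, dsChar_mul, MonoidHom.mul_apply]

lemma gmFn_comp {Y Y' : Over S} (h : Y' ⟶ Y) (z : Y ⟶ Red.Gm S) :
    Red.gmFn (h ≫ z) = h.left.appTop (Red.gmFn z) := by
  rw [gmFn_eq, gmFn_eq, dsChar_comp]
  rfl

lemma isUnit_gmFn {Y : Over S} (z : Y ⟶ Red.Gm S) : IsUnit (Red.gmFn z) := by
  rw [gmFn_eq]
  exact (Group.isUnit (Multiplicative.ofAdd (1 : ℤ))).map _

lemma comp_gmPt {Y Y' : Over S} (h : Y' ⟶ Y) (z : Γ(Y.left, ⊤)ˣ) :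
    h ≫ gmPt Y z = gmPt Y' (Units.map h.left.appTop.hom.toMonoidHom z) := by
  apply gmFn_injective
  rw [gmFn_comp, gmFn_gmPt, gmFn_gmPt]
  rfl

lemma gmPt_mul (Y : Over S) (z z' : Γ(Y.left, ⊤)ˣ) : gmPt Y (z * z') = gmPt Y z * gmPt Y z' := by
  apply gmFn_injective
  rw [gmFn_mul, gmFn_gmPt, gmFn_gmPt, gmFn_gmPt, Units.val_mul]

end gm

variable {S : Scheme.{u}} {G T : Over S} [GrpObj G] [GrpObj T] (i : T ⟶ G) (α : T ⟶ Red.Gm S)
  (pp pm : Red.Ga S ⟶ G)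

/-- The big cell morphism. -/
noncomputable abbrev Om : (Red.Ga S ⊗ T) ⊗ Red.Ga S ⟶ G :=
  ((pm ⊗ₘ i) ⊗ₘ pp) ≫ (μ[G] ▷ G) ≫ μ[G]

omit [GrpObj T] in
lemma lift_Om {Y : Over S} (y : Y ⟶ Red.Ga S) (t : Y ⟶ T) (x : Y ⟶ Red.Ga S) :
    lift (lift y t) x ≫ Om i pp pm = (y ≫ pm) * (t ≫ i) * (x ≫ pp) := by
  rw [Om, lift_map_assoc, lift_map, lift_whiskerRight_assoc, Hom.mul_def, Hom.mul_def]

/-- A family of solutions of the rank one formula. -/
structure RFam (X : Over S) (a : X ⟶ Red.Gm S) (β : Red.Gm S ⊗ X ⟶ T) : Prop where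
  hom : ∀ (Y : Over S) (f : Y ⟶ X) (z z' : Y ⟶ Red.Gm S),
    lift (z * z') f ≫ β = (lift z f ≫ β) * (lift z' f ≫ β)
  sq : ∀ (Y : Over S) (f : Y ⟶ X) (z : Y ⟶ Red.Gm S), lift z f ≫ β ≫ α = z ^ 2
  om : ∀ (Y : Over S) (f : Y ⟶ X) (x y : Y ⟶ Red.Ga S),
    (∃ w : Y ⟶ (Red.Ga S ⊗ T) ⊗ Red.Ga S, w ≫ Om i pp pm = (x ≫ pp) * (y ≫ pm)) ↔
      IsUnit (1 + Red.gmFn (f ≫ a) * Red.gaFn x * Red.gaFn y)
  formula : ∀ (Y : Over S) (f : Y ⟶ X) (x y : Y ⟶ Red.Ga S),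
    IsUnit (1 + Red.gmFn (f ≫ a) * Red.gaFn x * Red.gaFn y) →
      ∃ (x' y' : Y ⟶ Red.Ga S) (z : Y ⟶ Red.Gm S),
        Red.gmFn z = 1 + Red.gmFn (f ≫ a) * Red.gaFn x * Red.gaFn y ∧
        Red.gaFn x' * Red.gmFn z = Red.gaFn x ∧ Red.gaFn y' * Red.gmFn z = Red.gaFn y ∧
        (x ≫ pp) * (y ≫ pm) = (y' ≫ pm) * (lift z f ≫ β ≫ i) * (x' ≫ pp)

variable {i α pp pm}

omit [GrpObj T] in
lemma cell_unique [Mono (Om i pp pm)] {Y : Over S} {y y' : Y ⟶ Red.Ga S} {t t' : Y ⟶ T}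
    {x x' : Y ⟶ Red.Ga S} (h : (y ≫ pm) * (t ≫ i) * (x ≫ pp) = (y' ≫ pm) * (t' ≫ i) * (x' ≫ pp)) :
    y = y' ∧ t = t' ∧ x = x' := by
  rw [← lift_Om, ← lift_Om, cancel_mono] at h
  have h1 := congrArg (· ≫ fst _ _) h
  have h2 := congrArg (· ≫ snd _ _) h
  simp only [lift_fst, lift_snd] at h1 h2
  have h3 := congrArg (· ≫ fst _ _) h1
  have h4 := congrArg (· ≫ snd _ _) h1
  simp only [lift_fst, lift_snd] at h3 h4
  exact ⟨h3, h4, h2⟩

/-- Restriction of a family. -/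
lemma RFam.comp {X X' : Over S} {a : X ⟶ Red.Gm S} {β : Red.Gm S ⊗ X ⟶ T} (h : RFam i α pp pm X a β)
    (g : X' ⟶ X) : RFam i α pp pm X' (g ≫ a) ((Red.Gm S ◁ g) ≫ β) where
  hom Y f z z' := by
    rw [lift_whiskerLeft_assoc, lift_whiskerLeft_assoc, lift_whiskerLeft_assoc]
    exact h.hom Y (f ≫ g) z z'
  sq Y f z := by
    rw [Category.assoc, lift_whiskerLeft_assoc]
    exact h.sq Y (f ≫ g) z
  om Y f x y := by
    rw [← Category.assoc f g a]
    exact h.om Y (f ≫ g) x y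
  formula Y f x y hu := by
    rw [← Category.assoc f g a] at hu ⊢
    obtain ⟨x', y', z, h1, h2, h3, h4⟩ := h.formula Y (f ≫ g) x y hu
    refine ⟨x', y', z, h1, h2, h3, ?_⟩
    rw [Category.assoc, lift_whiskerLeft_assoc]
    exact h4

/-- The parameter `a` is unique: affine version. -/
lemma RFam.gmFn_eq_of_affine [Mono (Om i pp pm)] {X : Over S} {a b : X ⟶ Red.Gm S}
    {β γ : Red.Gm S ⊗ X ⟶ T} (h : RFam i α pp pm X a β) (h' : RFam i α pp pm X b γ)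
    {A : Type u} [CommRing A] (j : Spec (.of A) ⟶ X.left) :
    j ≫ a.left = j ≫ b.left := by
  -- dual numbers
  let w : Spec (.of A) ⟶ S := j ≫ X.hom
  let D : Type u := DualNumber A
  let Y : Over S := (Over.map w).obj (pt A D)
  let Y₀ : Over S := (Over.map w).obj (pt A A)
  let f₀ : Y₀ ⟶ X := Over.homMk j (by
    change j ≫ X.hom = Spec.map (CommRingCat.ofHom (algebraMap A A)) ≫ w
    have : CommRingCat.ofHom (algebraMap A A) = 𝟙 (CommRingCat.of A) := rfl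
    rw [this, Spec.map_id, Category.id_comp])
  let g : Y ⟶ Y₀ := (Over.map w).map (ptMap (Algebra.ofId A D))
  let f : Y ⟶ X := g ≫ f₀
  suffices hh : Red.gmFn (f₀ ≫ a) = Red.gmFn (f₀ ≫ b) by
    have := gmFn_injective hh
    exact congrArg (fun t => t.left) this
  let Fa : Γ(Y₀.left, ⊤) := Red.gmFn (f₀ ≫ a)
  let Fb : Γ(Y₀.left, ⊤) := Red.gmFn (f₀ ≫ b)
  obtain ⟨a₀, ha₀⟩ := DSRigid.gPt_surjective (R := A) A Fa
  obtain ⟨b₀, hb₀⟩ := DSRigid.gPt_surjective (R := A) A Fb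
  change Fa = Fb
  rw [← ha₀, ← hb₀]
  congr 1
  have hna : Red.gmFn (f ≫ a) = gPt A D (algebraMap A D a₀) := by
    rw [Category.assoc, gmFn_comp]
    change g.left.appTop Fa = _
    rw [← ha₀]
    exact gPt_naturality (Algebra.ofId A D) a₀
  have hnb : Red.gmFn (f ≫ b) = gPt A D (algebraMap A D b₀) := by
    rw [Category.assoc, gmFn_comp]
    change g.left.appTop Fb = _
    rw [← hb₀]
    exact gPt_naturality (Algebra.ofId A D) b₀
  let e : D := DualNumber.eps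
  have hee : e * e = 0 := DualNumber.eps_mul_eps
  let x : Y ⟶ Red.Ga S := gaPt Y (gPt A D e)
  let y : Y ⟶ Red.Ga S := gaPt Y (gPt A D 1)
  have hx : Red.gaFn x = gPt A D e := gaFn_gaPt _ _
  have hy : Red.gaFn y = gPt A D 1 := gaFn_gaPt _ _
  have key : ∀ c : A, IsUnit (1 + gPt A D (algebraMap A D c) * gPt A D e * gPt A D 1) := by
    intro c
    rw [← map_mul, ← map_mul, ← map_one (gPt A D), ← map_add]
    refine IsUnit.map (gPt A D) ?_
    refine IsUnit.of_mul_eq_one (1 - algebraMap A D c * e) ?_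
    linear_combination (- (algebraMap A D c) ^ 2) * hee
  have hua : IsUnit (1 + Red.gmFn (f ≫ a) * Red.gaFn x * Red.gaFn y) := by
    rw [hna, hx, hy]; exact key a₀
  have hub : IsUnit (1 + Red.gmFn (f ≫ b) * Red.gaFn x * Red.gaFn y) := by
    rw [hnb, hx, hy]; exact key b₀
  obtain ⟨x₁, y₁, z₁, h1, h2, h3, h4⟩ := h.formula Y f x y hua
  obtain ⟨x₂, y₂, z₂, k1, k2, k3, k4⟩ := h'.formula Y f x y hub
  rw [h4, ← Category.assoc _ β i, ← Category.assoc _ γ i] at k4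
  obtain ⟨r1, -, r3⟩ := cell_unique k4
  subst r1
  have hy1 : Red.gaFn y = 1 := by rw [hy, map_one]
  have hzz : Red.gmFn z₁ = Red.gmFn z₂ := by
    have e1 := h3.trans hy1
    have e2 := k3.trans hy1
    calc Red.gmFn z₁ = Red.gmFn z₁ * (Red.gaFn y₁ * Red.gmFn z₂) := by rw [e2, _root_.mul_one]
      _ = (Red.gaFn y₁ * Red.gmFn z₁) * Red.gmFn z₂ := by ring
      _ = Red.gmFn z₂ := by rw [e1, _root_.one_mul]
  rw [h1, k1, hna, hnb, hx, hy, map_one, _root_.mul_one, _root_.mul_one, add_right_inj, ← map_mul,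
    ← map_mul] at hzz
  have h5 := DSRigid.gPt_injective (R := A) D hzz
  have h6 := congrArg TrivSqZeroExt.snd h5
  simpa [e, D, TrivSqZeroExt.algebraMap_eq_inl] using h6

theorem RFam.unique_a [Mono (Om i pp pm)] {X : Over S} {a b : X ⟶ Red.Gm S}
    {β γ : Red.Gm S ⊗ X ⟶ T} (h : RFam i α pp pm X a β) (h' : RFam i α pp pm X b γ) : a = b := by
  ext1
  refine Scheme.Cover.hom_ext X.left.affineCover _ _ fun k => ?_
  have h1 := h.gmFn_eq_of_affine h' (A := Γ(X.left.affineCover.X k, ⊤))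
    ((X.left.affineCover.X k).isoSpec.inv ≫ X.left.affineCover.f k)
  rw [Category.assoc, Category.assoc] at h1
  exact (cancel_epi _).mp h1

/-- A convenient form of the formula. -/
lemma RFam.formula' {X : Over S} {a : X ⟶ Red.Gm S} {β : Red.Gm S ⊗ X ⟶ T} (h : RFam i α pp pm X a β)
    {Y : Over S} (f : Y ⟶ X) {x y x' y' : Y ⟶ Red.Ga S} {z : Y ⟶ Red.Gm S}
    (hz : Red.gmFn z = 1 + Red.gmFn (f ≫ a) * Red.gaFn x * Red.gaFn y)
    (hx : Red.gaFn x' * Red.gmFn z = Red.gaFn x) (hy : Red.gaFn y' * Red.gmFn z = Red.gaFn y) :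
    (x ≫ pp) * (y ≫ pm) = (y' ≫ pm) * (lift z f ≫ β ≫ i) * (x' ≫ pp) := by
  obtain ⟨x₁, y₁, z₁, h1, h2, h3, h4⟩ := h.formula Y f x y (by rw [← hz]; exact isUnit_gmFn z)
  have hz1 : z₁ = z := gmFn_injective (h1.trans hz.symm)
  subst hz1
  have hu := isUnit_gmFn z₁
  have hx1 : x₁ = x' := gaFn_injective _ (hu.mul_right_cancel (h2.trans hx.symm))
  have hy1 : y₁ = y' := gaFn_injective _ (hu.mul_right_cancel (h3.trans hy.symm))
  rw [h4, hx1, hy1]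

theorem RFam.unique_β [Mono (Om i pp pm)] {X : Over S} {a : X ⟶ Red.Gm S}
    {β γ : Red.Gm S ⊗ X ⟶ T} (h : RFam i α pp pm X a β) (h' : RFam i α pp pm X a γ) : β = γ := by
  let Y : Over S := Red.Gm S ⊗ X
  let f : Y ⟶ X := snd _ _
  let z : Y ⟶ Red.Gm S := fst _ _
  obtain ⟨ua, hua⟩ := isUnit_gmFn (f ≫ a)
  obtain ⟨uz, huz⟩ := isUnit_gmFn z
  let x : Y ⟶ Red.Ga S := gaPt Y ((Red.gmFn z - 1) * ((ua⁻¹ : Γ(Y.left, ⊤)ˣ) : Γ(Y.left, ⊤)))
  let y : Y ⟶ Red.Ga S := gaPt Y 1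
  let x' : Y ⟶ Red.Ga S := gaPt Y (Red.gaFn x * ((uz⁻¹ : Γ(Y.left, ⊤)ˣ) : Γ(Y.left, ⊤)))
  let y' : Y ⟶ Red.Ga S := gaPt Y (Red.gaFn y * ((uz⁻¹ : Γ(Y.left, ⊤)ˣ) : Γ(Y.left, ⊤)))
  have hz : Red.gmFn z = 1 + Red.gmFn (f ≫ a) * Red.gaFn x * Red.gaFn y := by
    simp only [x, y, gaFn_gaPt, _root_.mul_one, ← hua]
    have := ua.mul_inv
    linear_combination (- (Red.gmFn z - 1)) * this
  have hx : Red.gaFn x' * Red.gmFn z = Red.gaFn x := by
    simp only [x', gaFn_gaPt, ← huz]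
    have := uz.mul_inv
    linear_combination (Red.gaFn x) * this
  have hy : Red.gaFn y' * Red.gmFn z = Red.gaFn y := by
    simp only [y', y, gaFn_gaPt, ← huz]
    have := uz.mul_inv
    linear_combination this
  have e1 := h.formula' f hz hx hy
  have e2 := h'.formula' f hz hx hy
  rw [e1, ← Category.assoc _ β i, ← Category.assoc _ γ i] at e2
  obtain ⟨-, r2, -⟩ := cell_unique e2
  rwa [show lift z f = 𝟙 _ from lift_fst_snd, Category.id_comp, Category.id_comp] at r2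

/-- A function on `Y` is a unit if and only if its pullbacks to the members of a jointly surjective
family are units. -/
lemma isUnit_of_cover {Y : Scheme.{u}} {J : Type*} (Y' : J → Scheme.{u}) (f : ∀ k, Y' k ⟶ Y)
    (hf : ∀ y : Y, ∃ (k : J) (y' : Y' k), f k y' = y) (u : Γ(Y, ⊤))
    (hu : ∀ k, IsUnit ((f k).appTop u)) : IsUnit u := by
  have h1 : Y.basicOpen u = ⊤ := by
    rw [eq_top_iff]
    intro y _
    obtain ⟨k, y', rfl⟩ := hf y
    have h2 : (f k) ⁻¹ᵁ (Y.basicOpen u) = ⊤ := by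
      rw [Scheme.preimage_basicOpen]
      exact Scheme.basicOpen_of_isUnit _ (hu k)
    have h3 : y' ∈ (f k) ⁻¹ᵁ (Y.basicOpen u) := by rw [h2]; trivial
    exact h3
  have h4 := RingedSpace.isUnit_res_basicOpen (X := Y.toRingedSpace) u
  have h5 : ∀ (V : Y.Opens) (hV : V = ⊤), IsUnit (Y.presheaf.map (homOfLE (le_top : V ≤ ⊤)).op u) →
      IsUnit u := by
    intro V hV h
    subst hV
    have : (homOfLE (le_top : (⊤ : Y.Opens) ≤ ⊤)).op = 𝟙 _ := rfl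
    rw [this, Y.presheaf.map_id] at h
    exact h
  exact h5 _ h1 h4

end Groth.Agent.Sga3.H790.RkFam
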