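import Mathlib.FieldTheory.RatFunc.IntermediateField
import Mathlib.FieldTheory.RatFunc.AsPolynomial

/-!
# Rational functions `β = P/Q` with `β(0)=1` such that `X β` generates `K(X)`
-/

set_option autoImplicit false

namespace Groth.Agent.Sga3.H790.RkMobius

open Polynomial IntermediateField

variable {K : Type*} [Field K]

theorem not_const {P Q : K[X]} (hQ : Q.eval 0 ≠ 0) (hPQ : P.eval 0 = Q.eval 0)
    (β : RatFunc K) (hβ : β * algebraMap K[X] (RatFunc K) Q = algebraMap K[X] (RatFunc K) P) :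
    ¬ ∃ c, RatFunc.X * β = RatFunc.C c := by
  rintro ⟨c, hc⟩
  have h1 : algebraMap K[X] (RatFunc K) (X * P) = algebraMap K[X] (RatFunc K) (C c * Q) := by
    rw [map_mul, map_mul, ← hβ, ← mul_assoc, RatFunc.algebraMap_X, hc, RatFunc.algebraMap_C]
  have h2 := RatFunc.algebraMap_injective K h1
  have h3 := congrArg (eval 0) h2
  rw [eval_mul, eval_mul, eval_X, eval_C, zero_mul] at h3
  have h4 : c = 0 := by
    rcases mul_eq_zero.mp h3.symm with h | h
    · exact h
    · exact absurd h hQ
  rw [h4, C_0, zero_mul] at h2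
  rcases mul_eq_zero.mp h2 with h | h
  · exact X_ne_zero h
  · rw [h, eval_zero] at hPQ
    exact hQ hPQ.symm

theorem mobius {P Q : K[X]} (hQ : Q.eval 0 ≠ 0) (hPQ : P.eval 0 = Q.eval 0)
    (β : RatFunc K) (hβ : β * algebraMap K[X] (RatFunc K) Q = algebraMap K[X] (RatFunc K) P)
    (hgen : K⟮(RatFunc.X * β : RatFunc K)⟯ = ⊤) :
    ∃ e : K, β * (1 + RatFunc.C e * RatFunc.X) = 1 := by
  set g : RatFunc K := RatFunc.X * β with hg
  have hdeg := RatFunc.finrank_eq_max_natDegree g
  rw [hgen, IntermediateField.finrank_top] at hdeg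
  have hN : g.num.natDegree ≤ 1 := hdeg ▸ le_max_left _ _
  have hD : g.denom.natDegree ≤ 1 := hdeg ▸ le_max_right _ _
  have hnc := not_const hQ hPQ β hβ
  have hden : algebraMap K[X] (RatFunc K) g.denom ≠ 0 :=
    RatFunc.algebraMap_ne_zero g.denom_ne_zero
  -- num * Q = X * P * denom
  have h1 : g.num * Q = X * P * g.denom := by
    apply RatFunc.algebraMap_injective K
    rw [map_mul, map_mul, map_mul, RatFunc.algebraMap_X, ← hβ]
    have h2 : algebraMap K[X] (RatFunc K) g.num = g * algebraMap K[X] (RatFunc K) g.denom := by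
      rw [← div_eq_iff hden, RatFunc.num_div_denom]
    rw [h2, hg]
    ring
  have hnum0 : g.num.eval 0 = 0 := by
    have h3 := congrArg (eval 0) h1
    rw [eval_mul, eval_mul, eval_mul, eval_X, zero_mul, zero_mul] at h3
    exact (mul_eq_zero.mp h3).resolve_right hQ
  have hnum : g.num = C (g.num.coeff 1) * X := by
    conv_lhs => rw [Polynomial.eq_X_add_C_of_natDegree_le_one hN]
    rw [← Polynomial.coeff_zero_eq_eval_zero] at hnum0
    rw [hnum0, C_0, add_zero]
  have hdenom := Polynomial.eq_X_add_C_of_natDegree_le_one hD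
  set b := g.num.coeff 1 with hb
  set d := g.denom.coeff 1 with hd
  set c := g.denom.coeff 0 with hc
  have h4 : C b * Q = P * g.denom := by
    have h5 : X * (C b * Q) = X * (P * g.denom) := by
      rw [← mul_assoc X P, ← h1, hnum]; ring
    exact mul_left_cancel₀ X_ne_zero h5
  have h5 : b = c := by
    have h6 := congrArg (eval 0) h4
    rw [eval_mul, eval_mul, eval_C, hPQ, hdenom] at h6
    simp only [eval_add, eval_mul, eval_C, eval_X, mul_zero, zero_add] at h6
    rw [mul_comm] at h6
    exact mul_left_cancel₀ hQ h6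
  have hb0 : b ≠ 0 := by
    intro h0
    apply hnc
    refine ⟨0, ?_⟩
    have h7 : g.num = 0 := by rw [hnum, h0, C_0, zero_mul]
    rw [← hg, map_zero, ← RatFunc.num_div_denom g, h7, map_zero, zero_div]
  refine ⟨d / b, ?_⟩
  have hQ0 : algebraMap K[X] (RatFunc K) Q ≠ 0 := by
    apply RatFunc.algebraMap_ne_zero
    rintro rfl
    exact hQ (eval_zero)
  have h8 := congrArg (algebraMap K[X] (RatFunc K)) h4
  rw [map_mul, map_mul, ← hβ, RatFunc.algebraMap_C, hdenom, map_add, map_mul, RatFunc.algebraMap_C,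
    RatFunc.algebraMap_X, RatFunc.algebraMap_C, ← h5] at h8
  have hbC : (RatFunc.C b : RatFunc K) ≠ 0 := by
    rw [Ne, map_eq_zero]; exact hb0
  have h9 : (RatFunc.C (d / b) : RatFunc K) * RatFunc.C b = RatFunc.C d := by
    rw [← map_mul, div_mul_cancel₀ _ hb0]
  have h10 : (β * (1 + RatFunc.C (d / b) * RatFunc.X)) *
      (RatFunc.C b * algebraMap K[X] (RatFunc K) Q) =
      1 * (RatFunc.C b * algebraMap K[X] (RatFunc K) Q) := by
    linear_combination (β * RatFunc.X * algebraMap K[X] (RatFunc K) Q) * h9 - h8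
  exact mul_right_cancel₀ (mul_ne_zero hbC hQ0) h10

end Groth.Agent.Sga3.H790.RkMobius
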