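import Groth.Agent.Sga3.H790.RkKap
import Groth.Agent.Sga3.H790.RkMobius

/-!
# Rank one systems over a field: solution of the functional equation
-/

set_option autoImplicit false

universe u

namespace Groth.Agent.Sga3.H790.RkSys

variable {R : Type u} [CommRing R] {M : Type} [AddCommGroup M] {𝒮 : Sys R M}
variable {B C : Type u} [CommRing B] [Algebra R B] [CommRing C] [Algebra R C]

namespace Sys

open IntermediateField

section

variable (K : Type u) [Field K] [Algebra R K]

/-- the ideal of the universal element over `K[X]` -/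
theorem exists_idealK (𝒮 : Sys R M) : ∃ J : Ideal (Polynomial K),
    ∀ (C : Type u) [CommRing C] [Algebra R C] (φ : Polynomial K →ₐ[R] C),
      𝒮.U C (φ Polynomial.X) ↔ J.map φ.toRingHom = ⊤ := by
  obtain ⟨J, hJ, -⟩ := 𝒮.exists_ideal (𝒮.p (Polynomial K) Polynomial.X * 𝒮.q (Polynomial K) 1)
  refine ⟨J, fun C _ _ φ => ?_⟩
  have := hJ C φ
  rwa [𝒮.map_pq, map_one] at this

/-- For `j ∈ J`, the image of `X` lies in `U` as soon as `j` becomes invertible. -/
theorem U_of_isUnit {J : Ideal (Polynomial K)}
    (hJ : ∀ (C : Type u) [CommRing C] [Algebra R C] (φ : Polynomial K →ₐ[R] C),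
      𝒮.U C (φ Polynomial.X) ↔ J.map φ.toRingHom = ⊤) {j : Polynomial K} (hj : j ∈ J)
    (φ : Polynomial K →ₐ[R] C) (h : IsUnit (φ j)) : 𝒮.U C (φ Polynomial.X) := by
  rw [hJ]
  exact Ideal.eq_top_of_isUnit_mem _ (Ideal.mem_map_of_mem φ.toRingHom hj) h

theorem exists_mem_eval_ne {J : Ideal (Polynomial K)}
    (hJ : ∀ (C : Type u) [CommRing C] [Algebra R C] (φ : Polynomial K →ₐ[R] C),
      𝒮.U C (φ Polynomial.X) ↔ J.map φ.toRingHom = ⊤) {c : K} (hc : 𝒮.U K c) :
    ∃ j ∈ J, Polynomial.eval c j ≠ 0 := by
  have h1 := hJ K ((Polynomial.aeval c).restrictScalars R)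
  have h2 : ((Polynomial.aeval c : Polynomial K →ₐ[K] K).restrictScalars R) Polynomial.X = c :=
    Polynomial.aeval_X c
  rw [h2] at h1
  have h3 := h1.mp hc
  by_contra hcon
  push Not at hcon
  have : J.map ((Polynomial.aeval c : Polynomial K →ₐ[K] K).restrictScalars R).toRingHom = ⊥ := by
    rw [eq_bot_iff, Ideal.map_le_iff_le_comap]
    intro j hj
    rw [Ideal.mem_comap, Ideal.mem_bot]
    exact hcon j hj
  rw [this] at h3
  exact bot_ne_top h3

/-- evaluation of localized polynomials -/
noncomputable def locMap (j : Polynomial K) (φ : Polynomial K →ₐ[R] C) (h : IsUnit (φ j)) :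
    Localization.Away j →ₐ[R] C :=
  IsLocalization.liftAlgHom (M := Submonoid.powers j) (f := φ) (by
    rintro ⟨_, n, rfl⟩
    change IsUnit (φ (j ^ n))
    rw [map_pow]
    exact h.pow n)

theorem locMap_apply (j : Polynomial K) (φ : Polynomial K →ₐ[R] C) (h : IsUnit (φ j))
    (z : Polynomial K) : locMap K j φ h (algebraMap _ (Localization.Away j) z) = φ z :=
  IsLocalization.lift_eq _ z

/-- the inclusion of the polynomial ring in the field of rational functions -/
noncomputable def toRat (R K : Type u) [CommRing R] [Field K] [Algebra R K] :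
    Polynomial K →ₐ[R] RatFunc K :=
  IsScalarTower.toAlgHom R (Polynomial K) (RatFunc K)

theorem toRat_apply (z : Polynomial K) : toRat R K z = algebraMap (Polynomial K) (RatFunc K) z :=
  rfl

theorem isUnit_toRat {j : Polynomial K} (hj : j ≠ 0) : IsUnit (toRat R K j) := by
  rw [isUnit_iff_ne_zero]
  exact RatFunc.algebraMap_ne_zero hj

theorem U_ratX : 𝒮.U (RatFunc K) RatFunc.X := by
  obtain ⟨J, hJ⟩ := exists_idealK K 𝒮
  obtain ⟨j, hj, hj0⟩ := exists_mem_eval_ne K hJ (c := 0) 𝒮.U_zero
  have h1 : j ≠ 0 := by rintro rfl; exact hj0 Polynomial.eval_zero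
  have := U_of_isUnit K hJ hj (toRat R K) (isUnit_toRat K h1)
  rwa [toRat_apply, RatFunc.algebraMap_X] at this

theorem U_trans {F : Type u} [Field F] [Algebra R F] [Algebra K F] [IsScalarTower R K F]
    {r : F} (hr : Transcendental K r) : 𝒮.U F r := by
  obtain ⟨J, hJ⟩ := exists_idealK K 𝒮
  obtain ⟨j, hj, hj0⟩ := exists_mem_eval_ne K hJ (c := 0) 𝒮.U_zero
  have h1 : j ≠ 0 := by rintro rfl; exact hj0 Polynomial.eval_zero
  have h2 : IsUnit (((Polynomial.aeval r : Polynomial K →ₐ[K] F).restrictScalars R) j) := by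
    rw [isUnit_iff_ne_zero]
    intro h3
    exact h1 ((transcendental_iff.mp hr) j h3)
  have := U_of_isUnit K hJ hj _ h2
  have h4 : ((Polynomial.aeval r : Polynomial K →ₐ[K] F).restrictScalars R) Polynomial.X = r :=
    Polynomial.aeval_X r
  rwa [h4] at this

/-- Gluing: a relation that holds at the generic point holds everywhere. -/
theorem eq_of_generic {f h : ∀ (B : Type u) [CommRing B] [Algebra R B], B → B}
    (hf : 𝒮.IsNat f) (hh : 𝒮.IsNat h) (hX : f (RatFunc K) RatFunc.X = h (RatFunc K) RatFunc.X)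
    (φK : K →ₐ[R] B) {u : B} (hu : 𝒮.U B u) : f B u = h B u := by
  obtain ⟨J, hJ⟩ := exists_idealK K 𝒮
  let _ : Algebra K B := φK.toRingHom.toAlgebra
  have _ : IsScalarTower R K B := IsScalarTower.of_algebraMap_eq' φK.comp_algebraMap.symm
  let φ : Polynomial K →ₐ[R] B := (Polynomial.aeval u).restrictScalars R
  have hφX : φ Polynomial.X = u := Polynomial.aeval_X u
  have hJu : J.map φ.toRingHom = ⊤ := by
    rw [← hJ, hφX]; exact hu
  rw [← sub_eq_zero]
  apply eq_zero_of_localization
  intro P hP
  obtain ⟨j, hj, hjP⟩ : ∃ j ∈ J, φ j ∉ P := by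
    by_contra hcon
    push Not at hcon
    have : J.map φ.toRingHom ≤ P := by
      rw [Ideal.map_le_iff_le_comap]; exact hcon
    rw [hJu] at this
    exact hP.ne_top (top_le_iff.mp this)
  have hj0 : j ≠ 0 := by
    rintro rfl
    rw [map_zero] at hjP
    exact hjP P.zero_mem
  let φP : B →ₐ[R] Localization.AtPrime P := IsScalarTower.toAlgHom R B _
  have hu1 : IsUnit ((φP.comp φ) j) :=
    IsLocalization.map_units (Localization.AtPrime P) (⟨φ j, hjP⟩ : P.primeCompl)
  let D := Localization.Away j
  let x : D := algebraMap (Polynomial K) D Polynomial.X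
  have hx : 𝒮.U D x := U_of_isUnit K hJ hj (IsScalarTower.toAlgHom R (Polynomial K) D)
    (IsLocalization.Away.algebraMap_isUnit j)
  let ι := locMap K j (toRat R K) (isUnit_toRat K hj0)
  have hι : Function.Injective ι := by
    have : Function.Injective (IsLocalization.lift (M := Submonoid.powers j) (S := D)
      (g := (toRat R K).toRingHom) (by
        rintro ⟨_, n, rfl⟩
        change IsUnit (toRat R K (j ^ n))
        rw [map_pow]
        exact (isUnit_toRat K hj0).pow n)) := by
      rw [IsLocalization.lift_injective_iff]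
      intro a b
      constructor
      · intro h
        rw [← IsLocalization.lift_eq (M := Submonoid.powers j) (S := D)
          (g := (toRat R K).toRingHom) (by
            rintro ⟨_, n, rfl⟩
            change IsUnit (toRat R K (j ^ n))
            rw [map_pow]
            exact (isUnit_toRat K hj0).pow n) a, h, IsLocalization.lift_eq]
      · intro h
        have : a = b := RatFunc.algebraMap_injective K h
        rw [this]
    exact this
  have hιx : ι x = RatFunc.X := by
    rw [locMap_apply, toRat_apply, RatFunc.algebraMap_X]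
  have hD : f D x = h D x := by
    apply hι
    rw [hf ι x hx, hh ι x hx, hιx, hX]
  let ψ := locMap K j (φP.comp φ) hu1
  have hψx : ψ x = φP u := by
    rw [locMap_apply]
    change φP (φ Polynomial.X) = φP u
    rw [hφX]
  have h1 := congrArg ψ hD
  rw [hf ψ x hx, hh ψ x hx, hψx, ← hf φP u hu, ← hh φP u hu] at h1
  rw [map_sub, sub_eq_zero]
  exact h1

end

end Sys

end Groth.Agent.Sga3.H790.RkSys
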