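import Groth.Agent.Sga3.H790.RkField

/-!
# Rank one systems over a field: solution of the functional equation, II
-/

set_option autoImplicit false

universe u

namespace Groth.Agent.Sga3.H790.RkSys

variable {R : Type u} [CommRing R] {M : Type} [AddCommGroup M] {𝒮 : Sys R M}
variable {B C : Type u} [CommRing B] [Algebra R B] [CommRing C] [Algebra R C]

namespace Sys

open IntermediateField

section

variable (K : Type u) [Field K] [Algebra R K]

/-- `X ↦ X + ε` -/
noncomputable def tay : RatFunc K →ₐ[R] DualNumber (RatFunc K) :=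
  IsLocalization.liftAlgHom (M := nonZeroDivisors (Polynomial K)) (S := RatFunc K)
    (f := (Polynomial.aeval (de RatFunc.X 1 : DualNumber (RatFunc K)) :
      Polynomial K →ₐ[K] DualNumber (RatFunc K)).restrictScalars R) (by
    rintro ⟨z, hz⟩
    have hz0 : z ≠ 0 := nonZeroDivisors.ne_zero hz
    change IsUnit (Polynomial.aeval (de RatFunc.X 1 : DualNumber (RatFunc K)) z)
    rw [TrivSqZeroExt.isUnit_iff_isUnit_fst]
    have h1 : TrivSqZeroExt.fst (Polynomial.aeval (de RatFunc.X 1 : DualNumber (RatFunc K)) z) =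
        Polynomial.aeval (RatFunc.X : RatFunc K) z := by
      have := Polynomial.aeval_algHom_apply (TrivSqZeroExt.fstHom K (RatFunc K) (RatFunc K))
        (de RatFunc.X 1 : DualNumber (RatFunc K)) z
      rw [TrivSqZeroExt.fstHom_apply, TrivSqZeroExt.fstHom_apply, fst_de] at this
      exact this.symm
    rw [h1, RatFunc.aeval_X_left_eq_algebraMap, isUnit_iff_ne_zero]
    exact RatFunc.algebraMap_ne_zero hz0)

theorem tay_apply (z : Polynomial K) : tay (R := R) K (algebraMap _ (RatFunc K) z) =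
    Polynomial.aeval (de RatFunc.X 1 : DualNumber (RatFunc K)) z :=
  IsLocalization.lift_eq _ z

theorem tay_X : tay (R := R) K RatFunc.X = de RatFunc.X 1 := by
  rw [← RatFunc.algebraMap_X, tay_apply, Polynomial.aeval_X, RatFunc.algebraMap_X]

theorem tay_C (e : K) : tay (R := R) K (RatFunc.C e) = de (RatFunc.C e) 0 := by
  rw [← RatFunc.algebraMap_C, tay_apply, Polynomial.aeval_C, RatFunc.algebraMap_C]
  apply de_ext
  · rw [fst_de]; rfl
  · rw [snd_de]; rfl

/-- the generic value is a fraction normalised at zero -/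
theorem exists_frac {f : ∀ (B : Type u) [CommRing B] [Algebra R B], B → B}
    (hf : 𝒮.IsNat f) (h0 : f K 0 = 1) : ∃ P Q : Polynomial K, Q.eval 0 ≠ 0 ∧
      P.eval 0 = Q.eval 0 ∧
      f (RatFunc K) RatFunc.X * algebraMap _ (RatFunc K) Q = algebraMap _ (RatFunc K) P := by
  obtain ⟨J, hJ⟩ := exists_idealK K 𝒮
  obtain ⟨j, hj, hj0⟩ := exists_mem_eval_ne K hJ (c := 0) 𝒮.U_zero
  have hj1 : j ≠ 0 := by rintro rfl; exact hj0 Polynomial.eval_zero
  let D := Localization.Away j
  let x : D := algebraMap (Polynomial K) D Polynomial.X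
  have hx : 𝒮.U D x := U_of_isUnit K hJ hj (IsScalarTower.toAlgHom R (Polynomial K) D)
    (IsLocalization.Away.algebraMap_isUnit j)
  let ι := locMap K j (toRat R K) (isUnit_toRat K hj1)
  have hιx : ι x = RatFunc.X := by
    rw [locMap_apply, toRat_apply, RatFunc.algebraMap_X]
  let ev0 : Polynomial K →ₐ[R] K := (Polynomial.aeval (0 : K)).restrictScalars R
  have hev : ∀ z, ev0 z = z.eval 0 := fun z => by
    change Polynomial.aeval (0 : K) z = _
    rw [Polynomial.coe_aeval_eq_eval]
  have hu0 : IsUnit (ev0 j) := by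
    rw [hev, isUnit_iff_ne_zero]; exact hj0
  let ev := locMap K j ev0 hu0
  have hevx : ev x = 0 := by
    rw [locMap_apply, hev, Polynomial.eval_X]
  obtain ⟨⟨P, ⟨_, n, rfl⟩⟩, hPQ⟩ := IsLocalization.surj (Submonoid.powers j) (f D x)
  change f D x * algebraMap (Polynomial K) D (j ^ n) = algebraMap (Polynomial K) D P at hPQ
  refine ⟨P, j ^ n, ?_, ?_, ?_⟩
  · rw [Polynomial.eval_pow]; exact pow_ne_zero n hj0
  · have h1 := congrArg ev hPQ
    rw [map_mul, hf ev x hx, hevx, locMap_apply, locMap_apply, h0, hev, hev, one_mul] at h1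
    exact h1.symm
  · have h1 := congrArg ι hPQ
    rw [map_mul, hf ι x hx, hιx, locMap_apply, locMap_apply] at h1
    exact h1

/-- Solution of the functional equation over a field. -/
theorem generic_solution {f : ∀ (B : Type u) [CommRing B] [Algebra R B], B → B}
    (hf : 𝒮.IsNat f) (h0 : ∀ (B : Type u) [CommRing B] [Algebra R B], f B 0 = 1)
    (hE : ∀ (B : Type u) [CommRing B] [Algebra R B] (u v : B), 𝒮.U B v → 𝒮.U B (u * f B v) →
      f B (u + v) = f B v * f B (u * f B v)) (k : R)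
    (hd : ∀ (B : Type u) [CommRing B] [Algebra R B] (v : B), 𝒮.U B v →
      der (R := R) f B v = - (algebraMap R B k * f B v ^ 2)) :
    (1 + algebraMap R (RatFunc K) k * RatFunc.X) * f (RatFunc K) RatFunc.X = 1 := by
  obtain ⟨P, Q, hQ, hPQ, hβ⟩ := exists_frac K hf (h0 K)
  set β := f (RatFunc K) RatFunc.X with hβdef
  have hnc := RkMobius.not_const hQ hPQ β hβ
  set g : RatFunc K := RatFunc.X * β with hg
  have htr : Transcendental K g := RatFunc.transcendental_of_ne_C g hnc
  -- the field `K(g)`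
  let F : IntermediateField K (RatFunc K) := K⟮g⟯
  have hgF : g ∈ F := mem_adjoin_simple_self K g
  let r : F := ⟨-g, F.neg_mem hgF⟩
  let ι : F →ₐ[R] RatFunc K := F.val.restrictScalars R
  have hrt : Transcendental K r := by
    intro halg
    apply htr
    have h1 : IsAlgebraic K (-g) := by
      have := halg.algebraMap (A := RatFunc K)
      exact this
    have h2 := h1.neg
    rwa [neg_neg] at h2
  have hUr : 𝒮.U F r := U_trans K hrt
  have hU1 : 𝒮.U (RatFunc K) (-RatFunc.X * β) := by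
    have := 𝒮.U_map ι hUr
    have h2 : ι r = -RatFunc.X * β := by
      change -g = _
      rw [hg]; ring
    rwa [h2] at this
  have h1 := hE (RatFunc K) (-RatFunc.X) RatFunc.X (U_ratX K) hU1
  rw [neg_add_cancel, h0, ← hβdef] at h1
  have h2 : f (RatFunc K) (-RatFunc.X * β) = ι (f F r) := by
    rw [hf ι r hUr]
    congr 1
    change _ = -g
    rw [hg]; ring
  rw [h2] at h1
  have hβ0 : β ≠ 0 := by
    intro h
    rw [h, zero_mul] at h1
    exact one_ne_zero h1
  have hβF : β ∈ F := by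
    have h3 : β = (ι (f F r))⁻¹ := eq_inv_of_mul_eq_one_left h1.symm
    rw [h3]
    exact F.inv_mem (f F r).2
  have hXF : (RatFunc.X : RatFunc K) ∈ F := by
    have h3 : (RatFunc.X : RatFunc K) = g * β⁻¹ := by
      rw [hg, mul_inv_cancel_right₀ hβ0]
    rw [h3]
    exact F.mul_mem hgF (F.inv_mem hβF)
  have hgen : F = ⊤ := by
    rw [eq_top_iff, ← RatFunc.adjoin_X, adjoin_simple_le_iff]
    exact hXF
  obtain ⟨e, he⟩ := RkMobius.mobius hQ hPQ β hβ hgen
  -- derivative
  have h3 := hf (tay (R := R) K) RatFunc.X (U_ratX K)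
  rw [tay_X, hf.apply_de (U_ratX K), one_mul, ← hβdef, hd _ _ (U_ratX K), ← hβdef] at h3
  have h4 := congrArg (tay (R := R) K) he
  rw [map_mul, h3, map_add, map_one, map_mul, tay_C, tay_X, de_mul, de_one, de_add, de_mul,
    de_inj] at h4
  have h5 := h4.2
  have h6 : algebraMap R (RatFunc K) k = RatFunc.C e := by
    apply mul_left_cancel₀ hβ0
    linear_combination (-1 : RatFunc K) * h5 - (algebraMap R (RatFunc K) k * β) * he
  rw [h6, mul_comm]
  exact he

/-- `bf` over `K`-algebras -/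
theorem bf_eq_field (lam : M →+ ℤ) (hlam : lam 𝒮.m ≠ 0) (φK : K →ₐ[R] B) {u : B}
    (hu : 𝒮.U B u) : (1 + algebraMap R B 𝒮.kap * u) * 𝒮.bf B u = 1 := by
  refine eq_of_generic K (𝒮 := 𝒮) (f := fun B _ _ u => (1 + algebraMap R B 𝒮.kap * u) * 𝒮.bf B u)
    (h := fun B _ _ u => 1) ?_ ?_ ?_ φK hu
  · intro B C _ _ _ _ φ x hx
    rw [map_mul, map_add, map_one, map_mul, φ.commutes, map_bf φ hx]
  · intro B C _ _ _ _ φ x hx
    exact map_one φ
  · exact generic_solution K (f := fun B _ _ => 𝒮.bf B) isNat_bf (fun B _ _ => bf_zero lam hlam)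
      (fun B _ _ u v hv hu => (eqI lam hlam hv hu).2.1) 𝒮.kap (fun B _ _ v hv => db_eq lam hlam hv)

/-- `af` over `K`-algebras -/
theorem af_eq_field (lam : M →+ ℤ) (hlam : lam 𝒮.m ≠ 0) (φK : K →ₐ[R] B) {u : B}
    (hu : 𝒮.U B u) : (1 + algebraMap R B 𝒮.kap' * u) * 𝒮.af B u = 1 := by
  refine eq_of_generic K (𝒮 := 𝒮) (f := fun B _ _ u => (1 + algebraMap R B 𝒮.kap' * u) * 𝒮.af B u)
    (h := fun B _ _ u => 1) ?_ ?_ ?_ φK hu
  · intro B C _ _ _ _ φ x hx
    rw [map_mul, map_add, map_one, map_mul, φ.commutes, map_af lam hlam φ hx]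
  · intro B C _ _ _ _ φ x hx
    exact map_one φ
  · exact generic_solution K (f := fun B _ _ => 𝒮.af B) (isNat_af lam hlam)
      (fun B _ _ => af_zero lam hlam)
      (fun B _ _ u v hv hu => (eqII lam hlam hv hu).2.1) 𝒮.kap' (fun B _ _ v hv => da_eq lam hlam hv)

end

end Sys

end Groth.Agent.Sga3.H790.RkSys
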