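import Groth.Agent.Sga3.H790.RkDec
import Mathlib.RingTheory.Localization.AtPrime.Basic

/-!
# The full decomposition formula
-/

set_option autoImplicit false

universe u

namespace Groth.Agent.Sga3.H790.RkSys

variable {R : Type u} [CommRing R] {M : Type} [AddCommGroup M] (𝒮 : Sys R M)
variable {B C : Type u} [CommRing B] [Algebra R B] [CommRing C] [Algebra R C]

namespace Sys

open Classical in
/-- first component of `p u * q 1` -/
noncomputable def bf (B : Type u) [CommRing B] [Algebra R B] (u : B) : B :=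
  if h : 𝒮.Om B (𝒮.p B u * 𝒮.q B 1) then h.choose else 0

open Classical in
/-- torus component of `p u * q 1` -/
noncomputable def tf (B : Type u) [CommRing B] [Algebra R B] (u : B) : TP M B :=
  if h : 𝒮.Om B (𝒮.p B u * 𝒮.q B 1) then h.choose_spec.choose else 1

open Classical in
/-- last component of `p u * q 1` -/
noncomputable def gf (B : Type u) [CommRing B] [Algebra R B] (u : B) : B :=
  if h : 𝒮.Om B (𝒮.p B u * 𝒮.q B 1) then h.choose_spec.choose_spec.choose else 0

open Classical in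
/-- last component of `p 1 * q u` -/
noncomputable def af (B : Type u) [CommRing B] [Algebra R B] (u : B) : B :=
  if h : 𝒮.Om B (𝒮.p B 1 * 𝒮.q B u) then h.choose_spec.choose_spec.choose else 0

variable {𝒮}

theorem rel_bf {u : B} (h : 𝒮.U B u) : 𝒮.Rel u 1 (𝒮.bf B u) (𝒮.tf B u) (𝒮.gf B u) := by
  have h' : 𝒮.Om B (𝒮.p B u * 𝒮.q B 1) := h
  rw [bf, tf, gf, dif_pos h', dif_pos h', dif_pos h']
  exact h'.choose_spec.choose_spec.choose_spec

theorem exists_rel_af {u : B} (h : 𝒮.Om B (𝒮.p B 1 * 𝒮.q B u)) :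
    ∃ β τ, 𝒮.Rel 1 u β τ (𝒮.af B u) := by
  rw [af, dif_pos h]
  exact ⟨_, _, h.choose_spec.choose_spec.choose_spec⟩

theorem map_bf (φ : B →ₐ[R] C) {u : B} (h : 𝒮.U B u) : φ (𝒮.bf B u) = 𝒮.bf C (φ u) := by
  have h1 := (rel_bf h).map φ
  rw [map_one] at h1
  exact (h1.unique (rel_bf (𝒮.U_map φ h))).1

theorem map_tf (φ : B →ₐ[R] C) {u : B} (h : 𝒮.U B u) :
    TP.map φ.toRingHom (𝒮.tf B u) = 𝒮.tf C (φ u) := by
  have h1 := (rel_bf h).map φ
  rw [map_one] at h1
  exact (h1.unique (rel_bf (𝒮.U_map φ h))).2.1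

theorem map_af (lam : M →+ ℤ) (hlam : lam 𝒮.m ≠ 0) (φ : B →ₐ[R] C) {u : B} (h : 𝒮.U B u) :
    φ (𝒮.af B u) = 𝒮.af C (φ u) := by
  have h1 : 𝒮.Om B (𝒮.p B 1 * 𝒮.q B u) := by rwa [𝒮.Om_pq_iff lam hlam, one_mul]
  have h2 : 𝒮.Om C (𝒮.p C 1 * 𝒮.q C (φ u)) := by
    rw [𝒮.Om_pq_iff lam hlam, one_mul]; exact 𝒮.U_map φ h
  obtain ⟨β, τ, h3⟩ := exists_rel_af h1
  obtain ⟨β', τ', h4⟩ := exists_rel_af h2
  have h5 := h3.map φ
  rw [map_one] at h5
  exact (h5.unique h4).2.2

theorem rel_of_nonZeroDivisors (lam : M →+ ℤ) (hlam : lam 𝒮.m ≠ 0) {x y β γ : B} {τ : TP M B}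
    (hx : x ∈ nonZeroDivisors B) (hy : y ∈ nonZeroDivisors B) (h : 𝒮.Rel x y β τ γ) :
    β = y * 𝒮.bf B (x * y) ∧ τ = 𝒮.tf B (x * y) ∧ γ = x * 𝒮.af B (x * y) := by
  have hU : 𝒮.U B (x * y) := (𝒮.Om_pq_iff lam hlam x y).mp h.Om
  constructor
  · let φ : B →ₐ[R] Localization.Away y := IsScalarTower.toAlgHom R B (Localization.Away y)
    have hφ : Function.Injective φ :=
      IsLocalization.injective (Localization.Away y) (M := Submonoid.powers y) (by
        rintro _ ⟨n, rfl⟩; exact pow_mem hy n)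
    let y' : (Localization.Away y)ˣ := (IsLocalization.Away.algebraMap_isUnit y).unit
    have hy' : (y' : Localization.Away y) = φ y := rfl
    have h1 := h.map φ
    rw [← hy'] at h1
    have h2 := h1.of_unit_right lam hlam y'
    rw [hy', ← map_mul] at h2
    obtain ⟨h3, h4, -⟩ := h2.unique (rel_bf (𝒮.U_map φ hU))
    rw [← map_bf φ hU] at h3
    rw [← map_tf φ hU] at h4
    refine hφ ?_
    rw [map_mul, ← h3, ← hy', Units.mul_inv_cancel_left]
  · constructor
    · let φ : B →ₐ[R] Localization.Away y := IsScalarTower.toAlgHom R B (Localization.Away y)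
      have hφ : Function.Injective φ :=
        IsLocalization.injective (Localization.Away y) (M := Submonoid.powers y) (by
          rintro _ ⟨n, rfl⟩; exact pow_mem hy n)
      let y' : (Localization.Away y)ˣ := (IsLocalization.Away.algebraMap_isUnit y).unit
      have hy' : (y' : Localization.Away y) = φ y := rfl
      have h1 := h.map φ
      rw [← hy'] at h1
      have h2 := h1.of_unit_right lam hlam y'
      rw [hy', ← map_mul] at h2
      obtain ⟨-, h4, -⟩ := h2.unique (rel_bf (𝒮.U_map φ hU))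
      rw [← map_tf φ hU] at h4
      exact TP.map_injective hφ h4
    · let φ : B →ₐ[R] Localization.Away x := IsScalarTower.toAlgHom R B (Localization.Away x)
      have hφ : Function.Injective φ :=
        IsLocalization.injective (Localization.Away x) (M := Submonoid.powers x) (by
          rintro _ ⟨n, rfl⟩; exact pow_mem hx n)
      let x' : (Localization.Away x)ˣ := (IsLocalization.Away.algebraMap_isUnit x).unit
      have hx' : (x' : Localization.Away x) = φ x := rfl
      have h1 := h.map φ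
      rw [← hx'] at h1
      have h2 := h1.of_unit_left lam hlam x'
      rw [hx', ← map_mul] at h2
      have hO : 𝒮.Om _ (𝒮.p _ 1 * 𝒮.q _ (φ (x * y))) := by
        rw [𝒮.Om_pq_iff lam hlam, one_mul]; exact 𝒮.U_map φ hU
      obtain ⟨β', τ', h3⟩ := exists_rel_af hO
      obtain ⟨-, -, h4⟩ := h2.unique h3
      rw [← map_af lam hlam φ hU] at h4
      refine hφ ?_
      rw [map_mul, ← h4, ← hx', Units.mul_inv_cancel_left]

/-- The full decomposition formula. -/
theorem rel_full (lam : M →+ ℤ) (hlam : lam 𝒮.m ≠ 0) {x y : B} (hU : 𝒮.U B (x * y)) :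
    𝒮.Rel x y (y * 𝒮.bf B (x * y)) (𝒮.tf B (x * y)) (x * 𝒮.af B (x * y)) := by
  obtain ⟨β, τ, γ, h⟩ := (𝒮.Om_pq_iff lam hlam x y).mpr hU
  change 𝒮.Rel x y β τ γ at h
  -- the ideal of the universal element
  obtain ⟨J, hJ, -⟩ := 𝒮.exists_ideal (𝒮.p (Polynomial R) Polynomial.X * 𝒮.q (Polynomial R) 1)
  have hJ' : ∀ (C : Type u) [CommRing C] [Algebra R C] (u : C),
      𝒮.U C u ↔ J.map (Polynomial.aeval (R := R) u).toRingHom = ⊤ := by
    intro C _ _ u
    have := hJ C (Polynomial.aeval u)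
    rw [𝒮.map_pq, Polynomial.aeval_X, map_one] at this
    exact this
  have key : ∀ (P : Ideal B) [P.IsMaximal] (n : M),
      algebraMap B (Localization.AtPrime P) (β - y * 𝒮.bf B (x * y)) = 0 ∧
      algebraMap B (Localization.AtPrime P) (((τ (Multiplicative.ofAdd n) : Bˣ) : B) -
        (𝒮.tf B (x * y) (Multiplicative.ofAdd n) : Bˣ)) = 0 ∧
      algebraMap B (Localization.AtPrime P) (γ - x * 𝒮.af B (x * y)) = 0 := by
    intro P hP n
    have h1 := (hJ' B (x * y)).mp hU
    obtain ⟨j, hj, hjP⟩ : ∃ j ∈ J, Polynomial.aeval (x * y) j ∉ P := by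
      by_contra hcon
      push Not at hcon
      have : J.map (Polynomial.aeval (R := R) (x * y)).toRingHom ≤ P := by
        rw [Ideal.map_le_iff_le_comap]
        exact hcon
      rw [h1] at this
      exact hP.ne_top (top_le_iff.mp this)
    -- the universal ring
    let P2 := MvPolynomial (Fin 2) R
    let X : P2 := MvPolynomial.X 0
    let Y : P2 := MvPolynomial.X 1
    let f : P2 := Polynomial.aeval (X * Y) j
    let E := Localization.Away f
    let φP : P2 →ₐ[R] Localization.AtPrime P :=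
      MvPolynomial.aeval ![algebraMap B _ x, algebraMap B _ y]
    have hφX : φP X = algebraMap B _ x := MvPolynomial.aeval_X _ _
    have hφY : φP Y = algebraMap B _ y := MvPolynomial.aeval_X _ _
    have hf : φP f = algebraMap B _ (Polynomial.aeval (x * y) j) := by
      rw [← Polynomial.aeval_algHom_apply, map_mul, hφX, hφY, ← map_mul,
        Polynomial.aeval_algebraMap_apply]
    have hfu : IsUnit (φP f) := by
      rw [hf]
      exact IsLocalization.map_units (Localization.AtPrime P) (⟨_, hjP⟩ : P.primeCompl)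
    let ψ : E →ₐ[R] Localization.AtPrime P := IsLocalization.liftAlgHom (M := Submonoid.powers f)
      (f := φP) (by
        rintro ⟨_, k, rfl⟩
        change IsUnit (φP (f ^ k))
        rw [map_pow]; exact hfu.pow k)
    let ι : P2 →ₐ[R] E := IsScalarTower.toAlgHom R P2 E
    have hψι : ∀ z, ψ (ι z) = φP z := fun z => IsLocalization.lift_eq _ z
    have hnzd : ∀ z : P2, z ∈ nonZeroDivisors P2 → ι z ∈ nonZeroDivisors E := by
      intro z hz
      exact IsLocalization.map_nonZeroDivisors_le (Submonoid.powers f) E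
        ⟨z, hz, rfl⟩
    have hX : ι X ∈ nonZeroDivisors E := hnzd _ (isRegular_iff_mem_nonZeroDivisors.mp MvPolynomial.isRegular_X)
    have hY : ι Y ∈ nonZeroDivisors E := hnzd _ (isRegular_iff_mem_nonZeroDivisors.mp MvPolynomial.isRegular_X)
    have hUE : 𝒮.U E (ι X * ι Y) := by
      rw [hJ', Ideal.eq_top_iff_one]
      have h2 : IsUnit (ι f) := IsLocalization.Away.algebraMap_isUnit f
      have h3 : ι f ∈ J.map (Polynomial.aeval (R := R) (ι X * ι Y)).toRingHom := by
        have : ι f = (Polynomial.aeval (R := R) (ι X * ι Y)).toRingHom j := by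
          change ι f = Polynomial.aeval (ι X * ι Y) j
          rw [← map_mul, Polynomial.aeval_algHom_apply]
        rw [this]
        exact Ideal.mem_map_of_mem _ hj
      exact (Ideal.eq_top_of_isUnit_mem _ h3 h2).symm ▸ trivial
    obtain ⟨βE, τE, γE, hE⟩ := (𝒮.Om_pq_iff lam hlam _ _).mpr hUE
    obtain ⟨e1, e2, e3⟩ := rel_of_nonZeroDivisors lam hlam hX hY (show 𝒮.Rel _ _ βE τE γE from hE)
    have h5 := Rel.map ψ (show 𝒮.Rel _ _ βE τE γE from hE)
    rw [e1, e2, e3] at h5
    have hψU : ψ (ι X * ι Y) = algebraMap B _ (x * y) := by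
      rw [map_mul, hψι, hψι, hφX, hφY, map_mul]
    let φB : B →ₐ[R] Localization.AtPrime P := IsScalarTower.toAlgHom R B _
    have h6 := h.map φB
    rw [map_mul, map_mul, map_bf ψ hUE, map_af lam hlam ψ hUE, map_tf ψ hUE, hψU, hψι, hψι,
      hφX, hφY] at h5
    obtain ⟨g1, g2, g3⟩ := h6.unique h5
    have g1' : φB β = φB (y * 𝒮.bf B (x * y)) := by
      rw [map_mul φB, map_bf φB hU]; exact g1
    have g2' : TP.map φB.toRingHom τ = TP.map φB.toRingHom (𝒮.tf B (x * y)) := by
      rw [map_tf φB hU]; exact g2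
    have g3' : φB γ = φB (x * 𝒮.af B (x * y)) := by
      rw [map_mul φB, map_af lam hlam φB hU]; exact g3
    refine ⟨?_, ?_, ?_⟩
    · rw [map_sub, sub_eq_zero]; exact g1'
    · rw [map_sub, sub_eq_zero]
      exact congrArg (fun z : TP M _ => ((z (Multiplicative.ofAdd n) : (Localization.AtPrime P)ˣ) :
        Localization.AtPrime P)) g2'
    · rw [map_sub, sub_eq_zero]; exact g3'
  have k1 : β = y * 𝒮.bf B (x * y) :=
    sub_eq_zero.mp (eq_zero_of_localization _ fun P hP => (key P 0).1)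
  have k2 : τ = 𝒮.tf B (x * y) := by
    ext n
    exact sub_eq_zero.mp (eq_zero_of_localization _ fun P hP => (key P n).2.1)
  have k3 : γ = x * 𝒮.af B (x * y) :=
    sub_eq_zero.mp (eq_zero_of_localization _ fun P hP => (key P 0).2.2)
  rw [← k1, ← k2, ← k3]
  exact h

end Sys

end Groth.Agent.Sga3.H790.RkSys
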