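import Groth.Agent.Sga3.H790.RkFam

/-!
# Étale gluing of solutions of the rank one formula
-/

set_option autoImplicit false
universe u
open CategoryTheory MonoidalCategory CartesianMonoidalCategory MonObj GrpObj AlgebraicGeometry Limits

namespace Groth.Agent.Sga3.H790.RkFam

open Groth.Agent.Sga3B Groth.Agent.Sga3B.DSPts Groth.Agent.Sga3B.GaPts Groth.Agent.Sga3B.InfConj
open Groth.Agent.Sga3B.RepDescent Opposite

section cover

variable {S : Scheme.{u}} {J : Type u} (X : J → Over S)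

/-- The cover `Y × X k → Y` is jointly surjective. -/
lemma fst_surj (hX : ∀ s : S, ∃ k, s ∈ Set.range (X k).hom) (Y : Over S) (y : Y.left) :
    ∃ (k : J) (y' : (Y ⊗ X k).left), (fst Y (X k)).left y' = y := by
  obtain ⟨k, x, hx⟩ := hX (Y.hom y)
  have h : IsPullback (fst Y (X k)).left (snd Y (X k)).left Y.hom (X k).hom := by
    exact IsPullback.of_hasPullback _ _
  obtain ⟨z, hz, -⟩ := Scheme.Pullback.exists_preimage_pullback y x hx.symm
  exact ⟨k, z, hz⟩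

lemma fst_etale (hX : ∀ k, Etale (X k).hom) (Y : Over S) (k : J) : Etale (fst Y (X k)).left := by
  have := hX k
  have h : IsPullback (fst Y (X k)).left (snd Y (X k)).left Y.hom (X k).hom :=
    IsPullback.of_hasPullback _ _
  exact MorphismProperty.of_isPullback (P := @Etale) h.flip inferInstance

variable (hX : ∀ s : S, ∃ k, s ∈ Set.range (X k).hom) (hX' : ∀ k, Etale (X k).hom)

include hX hX' in
lemma hom_ext_cover {Y Z : Over S} {g h : Y ⟶ Z} (hgh : ∀ k, fst Y (X k) ≫ g = fst Y (X k) ≫ h) :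
    g = h := by
  obtain ⟨w, -, hw⟩ := isEtSheaf_yoneda Z (T := Y) (fun k => Y ⊗ X k) (fun k => fst Y (X k))
    (fst_etale X hX' Y) (fst_surj X hX Y) (fun k => fst Y (X k) ≫ g) (by
      intro k l R a b hab
      change a ≫ fst Y (X k) ≫ g = b ≫ fst Y (X l) ≫ g
      rw [← Category.assoc, hab, Category.assoc])
  exact (hw g fun k => rfl).trans (hw h fun k => (hgh k).symm).symm

include hX hX' in
lemma exists_lift_cover {Y Z W : Over S} (m : Z ⟶ W) [Mono m] (g : Y ⟶ W)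
    (h : ∀ k, ∃ w : Y ⊗ X k ⟶ Z, w ≫ m = fst Y (X k) ≫ g) : ∃ w : Y ⟶ Z, w ≫ m = g := by
  choose w hw using h
  obtain ⟨t, ht, -⟩ := isEtSheaf_yoneda Z (T := Y) (fun k => Y ⊗ X k) (fun k => fst Y (X k))
    (fst_etale X hX' Y) (fst_surj X hX Y) w (by
      intro k l R a b hab
      change a ≫ w k = b ≫ w l
      rw [← cancel_mono m, Category.assoc, Category.assoc, hw, hw, ← Category.assoc, hab,
        Category.assoc])
  refine ⟨t, hom_ext_cover X hX hX' fun k => ?_⟩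
  have h1 : fst Y (X k) ≫ t = w k := ht k
  rw [← Category.assoc, h1, hw]

end cover

variable {S : Scheme.{u}} {G T : Over S} [GrpObj G] [GrpObj T] {i : T ⟶ G} {α : T ⟶ Red.Gm S}
  {pp pm : Red.Ga S ⟶ G}

/-- Local solutions give a global solution. -/
theorem exists_of_local [Mono (Om i pp pm)]
    [Mono i] (hloc : ∀ s : S, ∃ X : Over S, Etale X.hom ∧ s ∈ Set.range X.hom ∧
      ∃ (a : X ⟶ Red.Gm S) (β : Red.Gm S ⊗ X ⟶ T), RFam i α pp pm X a β) :
    ∃ (a : 𝟙_ (Over S) ⟶ Red.Gm S) (β : Red.Gm S ⊗ 𝟙_ (Over S) ⟶ T),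
      RFam i α pp pm (𝟙_ (Over S)) a β := by
  choose X hX' hX'' a β h using hloc
  have hX : ∀ s : S, ∃ k, s ∈ Set.range (X k).hom := fun s => ⟨s, hX'' s⟩
  let f : ∀ k, X k ⟶ 𝟙_ (Over S) := fun k => toUnit _
  have hf : ∀ k, (f k).left = (X k).hom := fun k => by
    have := Over.w (f k)
    exact this
  have hfe : ∀ k, Etale (f k).left := fun k => by rw [hf]; exact hX' k
  have hfs : ∀ t : (𝟙_ (Over S)).left, ∃ (k : S) (t' : (X k).left), (f k).left t' = t := by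
    intro t
    obtain ⟨k, x, hx⟩ := hX t
    refine ⟨k, x, ?_⟩
    rw [hf]
    exact hx
  have hcomp : ∀ (k l : S) (R : Over S) (u : R ⟶ X k) (v : R ⟶ X l),
      u ≫ a k = v ≫ a l ∧ (Red.Gm S ◁ u) ≫ β k = (Red.Gm S ◁ v) ≫ β l := by
    intro k l R u v
    have h1 := (h k).comp u
    have h2 := (h l).comp v
    have h3 := h1.unique_a h2
    refine ⟨h3, ?_⟩
    rw [← h3] at h2
    exact h1.unique_β h2
  obtain ⟨A, hA, -⟩ := isEtSheaf_yoneda (Red.Gm S) (T := 𝟙_ (Over S)) X f hfe hfs a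
    (fun k l R u v _ => (hcomp k l R u v).1)
  obtain ⟨B, hB, -⟩ := isEtSheaf_famF (Red.Gm S) T (T := 𝟙_ (Over S)) X f hfe hfs β
    (fun k l R u v _ => (hcomp k l R u v).2)
  have hA' : ∀ k, f k ≫ A = a k := hA
  have hB' : ∀ k, (Red.Gm S ◁ f k) ≫ B = β k := hB
  -- comparison of the restrictions
  have ra : ∀ (Y : Over S) (k : S) (g : Y ⟶ 𝟙_ (Over S)),
      fst Y (X k) ≫ g ≫ A = snd Y (X k) ≫ a k := by
    intro Y k g
    rw [← hA' k, ← Category.assoc, ← Category.assoc]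
    congr 1
    exact toUnit_unique _ _
  have rb : ∀ (Y : Over S) (k : S) (g : Y ⟶ 𝟙_ (Over S)) (z : Y ⟶ Red.Gm S),
      fst Y (X k) ≫ lift z g ≫ B = lift (fst Y (X k) ≫ z) (snd Y (X k)) ≫ β k := by
    intro Y k g z
    rw [← hB' k, lift_whiskerLeft_assoc, ← Category.assoc, comp_lift]
    congr 2
    exact toUnit_unique _ _
  have rm : ∀ (Y : Over S) (k : S) (g : Y ⟶ 𝟙_ (Over S)) (x y : Y ⟶ Red.Ga S),
      (fst Y (X k)).left.appTop (1 + Red.gmFn (g ≫ A) * Red.gaFn x * Red.gaFn y) =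
        1 + Red.gmFn (snd Y (X k) ≫ a k) * Red.gaFn (fst Y (X k) ≫ x) *
          Red.gaFn (fst Y (X k) ≫ y) := by
    intro Y k g x y
    rw [← ra Y k g, gmFn_comp (fst Y (X k)), gaFn_comp, gaFn_comp, map_add, map_mul, map_mul,
      map_one]
  have form : ∀ (Y : Over S) (g : Y ⟶ 𝟙_ (Over S)) (x y x' y' : Y ⟶ Red.Ga S) (z : Y ⟶ Red.Gm S),
      Red.gmFn z = 1 + Red.gmFn (g ≫ A) * Red.gaFn x * Red.gaFn y →
      Red.gaFn x' * Red.gmFn z = Red.gaFn x → Red.gaFn y' * Red.gmFn z = Red.gaFn y →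
      (x ≫ pp) * (y ≫ pm) = (y' ≫ pm) * (lift z g ≫ B ≫ i) * (x' ≫ pp) := by
    intro Y g x y x' y' z hz hx hy
    apply hom_ext_cover X hX hX'
    intro k
    have e1 : Red.gmFn (fst Y (X k) ≫ z) =
        1 + Red.gmFn (snd Y (X k) ≫ a k) * Red.gaFn (fst Y (X k) ≫ x) *
          Red.gaFn (fst Y (X k) ≫ y) := by
      rw [gmFn_comp, hz, rm]
    have e2 : Red.gaFn (fst Y (X k) ≫ x') * Red.gmFn (fst Y (X k) ≫ z) =
        Red.gaFn (fst Y (X k) ≫ x) := by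
      rw [gmFn_comp, gaFn_comp, gaFn_comp, ← map_mul, hx]
    have e3 : Red.gaFn (fst Y (X k) ≫ y') * Red.gmFn (fst Y (X k) ≫ z) =
        Red.gaFn (fst Y (X k) ≫ y) := by
      rw [gmFn_comp, gaFn_comp, gaFn_comp, ← map_mul, hy]
    have e4 := (h k).formula' (snd Y (X k)) e1 e2 e3
    rw [← Category.assoc _ (β k) i, ← rb Y k g z] at e4
    simp only [comp_mul, Category.assoc] at e4 ⊢
    exact e4
  have formU : ∀ (Y : Over S) (g : Y ⟶ 𝟙_ (Over S)) (x y : Y ⟶ Red.Ga S),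
      IsUnit (1 + Red.gmFn (g ≫ A) * Red.gaFn x * Red.gaFn y) →
      ∃ (x' y' : Y ⟶ Red.Ga S) (z : Y ⟶ Red.Gm S),
        Red.gmFn z = 1 + Red.gmFn (g ≫ A) * Red.gaFn x * Red.gaFn y ∧
        Red.gaFn x' * Red.gmFn z = Red.gaFn x ∧ Red.gaFn y' * Red.gmFn z = Red.gaFn y ∧
        (x ≫ pp) * (y ≫ pm) = (y' ≫ pm) * (lift z g ≫ B ≫ i) * (x' ≫ pp) := by
    intro Y g x y ⟨uz, huz⟩
    let z : Y ⟶ Red.Gm S := gmPt Y uz
    let x' : Y ⟶ Red.Ga S := gaPt Y (Red.gaFn x * ((uz⁻¹ : Γ(Y.left, ⊤)ˣ) : Γ(Y.left, ⊤)))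
    let y' : Y ⟶ Red.Ga S := gaPt Y (Red.gaFn y * ((uz⁻¹ : Γ(Y.left, ⊤)ˣ) : Γ(Y.left, ⊤)))
    have hz : Red.gmFn z = 1 + Red.gmFn (g ≫ A) * Red.gaFn x * Red.gaFn y := by
      rw [gmFn_gmPt, huz]
    have hx : Red.gaFn x' * Red.gmFn z = Red.gaFn x := by
      simp only [x', z, gaFn_gaPt, gmFn_gmPt]
      linear_combination (Red.gaFn x) * uz.mul_inv
    have hy : Red.gaFn y' * Red.gmFn z = Red.gaFn y := by
      simp only [y', z, gaFn_gaPt, gmFn_gmPt]
      linear_combination (Red.gaFn y) * uz.mul_inv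
    exact ⟨x', y', z, hz, hx, hy, form Y g x y x' y' z hz hx hy⟩
  refine ⟨A, B, ?_, ?_, ?_, formU⟩
  · intro Y g z z'
    apply hom_ext_cover X hX hX'
    intro k
    rw [rb, comp_mul, comp_mul, rb, rb]
    exact (h k).hom _ _ _ _
  · intro Y g z
    apply hom_ext_cover X hX hX'
    intro k
    rw [← Category.assoc _ B α, ← Category.assoc (fst Y (X k)), rb, Category.assoc, (h k).sq]
    rw [pow_two, pow_two, comp_mul]
  · intro Y g x y
    constructor
    · rintro ⟨w, hw⟩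
      refine isUnit_of_cover (fun k => (Y ⊗ X k).left) (fun k => (fst Y (X k)).left)
        (fst_surj X hX Y) _ fun k => ?_
      rw [rm, ← (h k).om]
      refine ⟨fst Y (X k) ≫ w, ?_⟩
      rw [Category.assoc, hw, comp_mul, Category.assoc, Category.assoc]
    · intro hu
      obtain ⟨x', y', z, -, -, -, h4⟩ := formU Y g x y hu
      refine ⟨lift (lift y' (lift z g ≫ B)) x', ?_⟩
      rw [lift_Om, h4, Category.assoc]

/-- Local solutions give exactly one global solution, in the form of the statement. -/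
theorem existsUnique_of_local [IsMonHom α] [Mono (Om i pp pm)]
    [Mono i] (hloc : ∀ s : S, ∃ X : Over S, Etale X.hom ∧ s ∈ Set.range X.hom ∧
      ∃ (a : X ⟶ Red.Gm S) (β : Red.Gm S ⊗ X ⟶ T), RFam i α pp pm X a β) :
    ∃! q : (𝟙_ (Over S) ⟶ Red.Gm S) × (Red.Gm S ⟶ T), IsMonHom q.2 ∧ q.2 ≫ α = (𝟙 (Red.Gm S)) ^ 2 ∧
      ∀ (X : Over S) (x y : X ⟶ Red.Ga S),
        ((∃ w : X ⟶ (Red.Ga S ⊗ T) ⊗ Red.Ga S, w ≫ (((pm ⊗ₘ i) ⊗ₘ pp) ≫ (μ[G] ▷ G) ≫ μ[G]) = (x ≫ pp) * (y ≫ pm)) ↔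
          IsUnit (1 + Red.gmFn (toUnit X ≫ q.1) * Red.gaFn x * Red.gaFn y)) ∧
        (IsUnit (1 + Red.gmFn (toUnit X ≫ q.1) * Red.gaFn x * Red.gaFn y) →
          ∃ (x' y' : X ⟶ Red.Ga S) (z : X ⟶ Red.Gm S),
            Red.gmFn z = 1 + Red.gmFn (toUnit X ≫ q.1) * Red.gaFn x * Red.gaFn y ∧
            Red.gaFn x' * Red.gmFn z = Red.gaFn x ∧ Red.gaFn y' * Red.gmFn z = Red.gaFn y ∧
            (x ≫ pp) * (y ≫ pm) = (y' ≫ pm) * (z ≫ q.2 ≫ i) * (x' ≫ pp)) := by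
  obtain ⟨a, β, h⟩ := exists_of_local hloc
  refine ⟨(a, lift (𝟙 _) (toUnit _) ≫ β), ⟨?_, ?_, ?_⟩, ?_⟩
  · refine IsoFam.isMonHom_of_mul _ fun Y z z' => ?_
    have h1 := h.hom Y (toUnit Y) z z'
    have h2 : ∀ w : Y ⟶ Red.Gm S, w ≫ lift (𝟙 _) (toUnit _) ≫ β = lift w (toUnit Y) ≫ β := by
      intro w
      rw [comp_lift_assoc, Category.comp_id]
      congr 2
      exact toUnit_unique _ _
    rw [h2, h2, h2]
    exact h1
  · rw [Category.assoc, h.sq]
  · intro Y x y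
    have h2 : ∀ w : Y ⟶ Red.Gm S, w ≫ (lift (𝟙 _) (toUnit _) ≫ β) ≫ i = lift w (toUnit Y) ≫ β ≫ i := by
      intro w
      rw [Category.assoc, comp_lift_assoc, Category.comp_id]
      congr 2
      exact toUnit_unique _ _
    refine ⟨h.om Y (toUnit Y) x y, fun hu => ?_⟩
    obtain ⟨x', y', z, h1, h3, h4, h5⟩ := h.formula Y (toUnit Y) x y hu
    refine ⟨x', y', z, h1, h3, h4, ?_⟩
    simp only [h2]
    exact h5
  · rintro ⟨b, γ⟩ ⟨h1, h2, h3⟩
    dsimp only at h1 h2 h3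
    have h' : RFam i α pp pm (𝟙_ (Over S)) b (fst _ _ ≫ γ) := by
      refine ⟨?_, ?_, ?_, ?_⟩
      · intro Y f z z'
        rw [lift_fst_assoc, lift_fst_assoc, lift_fst_assoc]
        exact MonObj.mul_comp _ _ γ
      · intro Y f z
        rw [Category.assoc, lift_fst_assoc, h2]
        rw [pow_two, pow_two, comp_mul, Category.comp_id]
      · intro Y f x y
        rw [toUnit_unique f (toUnit Y)]
        exact (h3 Y x y).1
      · intro Y f x y hu
        rw [toUnit_unique f (toUnit Y)] at hu ⊢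
        obtain ⟨x', y', z, k1, k2, k3, k4⟩ := (h3 Y x y).2 hu
        refine ⟨x', y', z, k1, k2, k3, ?_⟩
        rw [Category.assoc, lift_fst_assoc]
        exact k4
    have h4 := h.unique_a h'
    subst h4
    have h5 := h.unique_β h'
    subst h5
    refine Prod.ext rfl ?_
    change γ = lift (𝟙 _) (toUnit _) ≫ fst _ _ ≫ γ
    rw [lift_fst_assoc, Category.id_comp]

end Groth.Agent.Sga3.H790.RkFam
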