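import Groth.Agent.Sga3.H790.RkDer
import Mathlib.RingTheory.PowerSeries.Inverse
import Mathlib.RingTheory.PowerSeries.Basic

/-!
# Comparison of the two constants of a rank one system
-/

set_option autoImplicit false

universe u

namespace Groth.Agent.Sga3.H790.RkSys

variable {R : Type u} [CommRing R] {M : Type} [AddCommGroup M] {𝒮 : Sys R M}
variable {B C : Type u} [CommRing B] [Algebra R B] [CommRing C] [Algebra R C]

namespace Sys

/-- If `g` lies in the cell modulo an ideal in the Jacobson radical then `g` lies in the cell. -/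
theorem Om_of_jac (φ : B →ₐ[R] C) (hsurj : Function.Surjective φ)
    (hnil : ∀ b, φ b = 0 → IsUnit (1 + b)) {g : 𝒮.G B} (h : 𝒮.Om C (𝒮.map φ g)) : 𝒮.Om B g := by
  obtain ⟨J, hJ, hJ'⟩ := 𝒮.exists_ideal g
  rw [hJ] at h
  rw [hJ', Ideal.eq_top_iff_one]
  have h1 : (1 : C) ∈ J.map φ.toRingHom := by rw [h]; trivial
  rw [Ideal.mem_map_iff_of_surjective φ.toRingHom hsurj] at h1
  obtain ⟨j, hj, hj1⟩ := h1
  have h2 : IsUnit j := by
    have h3 : φ (j - 1) = 0 := by
      rw [map_sub, map_one, sub_eq_zero]; exact hj1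
    have h4 := hnil _ h3
    rwa [add_sub_cancel] at h4
  exact (Ideal.eq_top_of_isUnit_mem J hj h2).symm ▸ trivial

/-- constant coefficient as an algebra map -/
noncomputable def cc (R K : Type u) [CommRing R] [CommRing K] [Algebra R K] :
    PowerSeries K →ₐ[R] K :=
  { PowerSeries.constantCoeff (R := K) with
    commutes' := fun r => by
      change PowerSeries.constantCoeff (algebraMap R (PowerSeries K) r) = _
      rw [IsScalarTower.algebraMap_apply R K (PowerSeries K)]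
      exact PowerSeries.constantCoeff_C _ }

theorem cc_apply (K : Type u) [CommRing K] [Algebra R K] (f : PowerSeries K) :
    cc R K f = PowerSeries.constantCoeff f := rfl

theorem U_X (K : Type u) [CommRing K] [Algebra R K] :
    𝒮.U (PowerSeries K) (PowerSeries.X : PowerSeries K) := by
  apply Om_of_jac (cc R K)
  · intro c
    exact ⟨PowerSeries.C c, PowerSeries.constantCoeff_C c⟩
  · intro b hb
    rw [PowerSeries.isUnit_iff_constantCoeff]
    rw [cc_apply] at hb
    rw [map_add, hb, map_one, add_zero]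
    exact isUnit_one
  · rw [𝒮.map_pq, cc_apply, PowerSeries.constantCoeff_X, map_one]
    exact 𝒮.U_zero

theorem eq_zero_of_mul_X_sq (K : Type u) [CommRing K] [Algebra R K] (c : K)
    (h : algebraMap K (PowerSeries K) c * (PowerSeries.X : PowerSeries K) ^ 2 = 0) : c = 0 := by
  have h1 : algebraMap K (PowerSeries K) c = PowerSeries.C c := rfl
  have h2 := congrArg (PowerSeries.coeff 2) h
  rw [h1, PowerSeries.coeff_C_mul, PowerSeries.coeff_X_pow_self, mul_one, map_zero] at h2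
  exact h2

variable (lam : M →+ ℤ) (hlam : lam 𝒮.m ≠ 0)

include hlam

theorem chi_inv_eps : (((𝒮.chi (𝒮.tf (DualNumber B) (de 0 1)))⁻¹ : (DualNumber B)ˣ) :
    DualNumber B) = de 1 (- (2 * algebraMap R B 𝒮.kap')) := by
  have h1 := chi_inv_eq (𝒮 := 𝒮) lam hlam (B := DualNumber B) (v := de 0 1) (U_de 𝒮.U_zero)
  have h2 := map_da (𝒮 := 𝒮) lam hlam (dfst R B) (x := de 0 1) (U_de 𝒮.U_zero)
  rw [dfst_apply, dfst_apply, fst_de, da_zero lam hlam] at h2
  rw [h1, af_de lam hlam 𝒮.U_zero, af_zero lam hlam, da_zero lam hlam,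
    eq_de (𝒮.da (DualNumber B) (de 0 1)), h2, de_mul, de_add, de_inj]
  constructor <;> ring

theorem chi_inv_eps' : (((𝒮.chi (𝒮.tf (DualNumber B) (de 0 1)))⁻¹ : (DualNumber B)ˣ) :
    DualNumber B) = de 1 (- (2 * algebraMap R B 𝒮.kap)) := by
  have h1 := chi_inv_eq' (𝒮 := 𝒮) lam hlam (B := DualNumber B) (v := de 0 1) (U_de 𝒮.U_zero)
  have h2 := map_db (𝒮 := 𝒮) (dfst R B) (x := de 0 1) (U_de 𝒮.U_zero)
  rw [dfst_apply, dfst_apply, fst_de, db_zero] at h2
  rw [h1, bf_de 𝒮.U_zero, bf_zero lam hlam, db_zero,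
    eq_de (𝒮.db (DualNumber B) (de 0 1)), h2, de_mul, de_add, de_inj]
  constructor <;> ring

/-- D4 -/
theorem eqIV {u : B} (hu : 𝒮.U B u) :
    u * 𝒮.da B u + 𝒮.af B u = 1 - 2 * algebraMap R B 𝒮.kap' * (u * 𝒮.af B u) -
      algebraMap R B 𝒮.kap * u ^ 2 * 𝒮.da B u := by
  have h0 : 𝒮.bf (DualNumber B) (de 0 1) = de 1 (- algebraMap R B 𝒮.kap) := by
    rw [bf_de 𝒮.U_zero, bf_zero lam hlam, db_zero, one_mul]
  have hm : (de u 0 : DualNumber B) * 𝒮.bf (DualNumber B) (de 0 1) =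
      de u (- (u * algebraMap R B 𝒮.kap)) := by
    rw [h0, de_mul, de_inj]; constructor <;> ring
  obtain ⟨-, -, -, h1⟩ := eqI (𝒮 := 𝒮) lam hlam (B := DualNumber B) (u := de u 0) (v := de 0 1)
    (U_de 𝒮.U_zero) (by rw [hm]; exact U_de hu)
  rw [hm, chi_inv_eps lam hlam, de_add, zero_add, add_zero, af_de lam hlam hu,
    af_de lam hlam hu, af_de lam hlam 𝒮.U_zero, af_zero lam hlam, de_mul, de_mul, de_mul, de_mul,
    de_add, de_inj] at h1
  have h2 := h1.2
  linear_combination h2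

/-- D4, other side -/
theorem eqIV' {u : B} (hu : 𝒮.U B u) :
    u * 𝒮.db B u + 𝒮.bf B u = 1 - 2 * algebraMap R B 𝒮.kap * (u * 𝒮.bf B u) -
      algebraMap R B 𝒮.kap' * u ^ 2 * 𝒮.db B u := by
  have h0 : 𝒮.af (DualNumber B) (de 0 1) = de 1 (- algebraMap R B 𝒮.kap') := by
    rw [af_de lam hlam 𝒮.U_zero, af_zero lam hlam, da_zero lam hlam, one_mul]
  have hm : (de u 0 : DualNumber B) * 𝒮.af (DualNumber B) (de 0 1) =
      de u (- (u * algebraMap R B 𝒮.kap')) := by
    rw [h0, de_mul, de_inj]; constructor <;> ring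
  obtain ⟨-, -, h1⟩ := eqII (𝒮 := 𝒮) lam hlam (B := DualNumber B) (u := de u 0) (v := de 0 1)
    (U_de 𝒮.U_zero) (by rw [hm]; exact U_de hu)
  rw [hm, chi_inv_eps' lam hlam, de_add, zero_add, add_zero, bf_de hu,
    bf_de hu, bf_de 𝒮.U_zero, bf_zero lam hlam, de_mul, de_mul, de_mul, de_mul,
    de_add, de_inj] at h1
  have h2 := h1.2
  linear_combination h2

/-- If `af u = 1/(1+κ'u)` over all `K`-algebras then `κ'(κ - κ') = 0` in `K`. -/
theorem kap_rel (K : Type u) [CommRing K] [Algebra R K]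
    (H : ∀ (B : Type u) [CommRing B] [Algebra R B] (_ : K →ₐ[R] B) (u : B), 𝒮.U B u →
      (1 + algebraMap R B 𝒮.kap' * u) * 𝒮.af B u = 1) :
    algebraMap R K 𝒮.kap' * (algebraMap R K 𝒮.kap - algebraMap R K 𝒮.kap') = 0 := by
  let X : PowerSeries K := PowerSeries.X
  have hX : 𝒮.U (PowerSeries K) X := U_X K
  have h1 := H (PowerSeries K) (IsScalarTower.toAlgHom R K (PowerSeries K)) X hX
  have h2 := eqIV lam hlam hX
  have h3 := da_eq lam hlam hX
  apply eq_zero_of_mul_X_sq (R := R)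
  have e1 : ∀ r : R, algebraMap K (PowerSeries K) (algebraMap R K r) =
      algebraMap R (PowerSeries K) r := fun r =>
    (IsScalarTower.algebraMap_apply R K (PowerSeries K) r).symm
  rw [map_mul, map_sub, e1, e1]
  set κ := algebraMap R (PowerSeries K) 𝒮.kap
  set κ' := algebraMap R (PowerSeries K) 𝒮.kap'
  set A := 𝒮.af (PowerSeries K) X
  rw [h3] at h2
  have h4 : (1 + κ' * X) ^ 2 * A ^ 2 = 1 := by rw [← mul_pow, h1, one_pow]
  linear_combination (-(1 + κ' * X)^2) * h2 - (X * κ' + κ * X^2 * κ') * h4 +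
    ((1 + κ' * X) + 2 * κ' * X * (1 + κ' * X)) * h1

/-- the other side -/
theorem kap_rel' (K : Type u) [CommRing K] [Algebra R K]
    (H : ∀ (B : Type u) [CommRing B] [Algebra R B] (_ : K →ₐ[R] B) (u : B), 𝒮.U B u →
      (1 + algebraMap R B 𝒮.kap * u) * 𝒮.bf B u = 1) :
    algebraMap R K 𝒮.kap * (algebraMap R K 𝒮.kap' - algebraMap R K 𝒮.kap) = 0 := by
  let X : PowerSeries K := PowerSeries.X
  have hX : 𝒮.U (PowerSeries K) X := U_X K
  have h1 := H (PowerSeries K) (IsScalarTower.toAlgHom R K (PowerSeries K)) X hX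
  have h2 := eqIV' lam hlam hX
  have h3 := db_eq lam hlam hX
  apply eq_zero_of_mul_X_sq (R := R)
  have e1 : ∀ r : R, algebraMap K (PowerSeries K) (algebraMap R K r) =
      algebraMap R (PowerSeries K) r := fun r =>
    (IsScalarTower.algebraMap_apply R K (PowerSeries K) r).symm
  rw [map_mul, map_sub, e1, e1]
  set κ := algebraMap R (PowerSeries K) 𝒮.kap
  set κ' := algebraMap R (PowerSeries K) 𝒮.kap'
  set A := 𝒮.bf (PowerSeries K) X
  rw [h3] at h2
  have h4 : (1 + κ * X) ^ 2 * A ^ 2 = 1 := by rw [← mul_pow, h1, one_pow]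
  linear_combination (-(1 + κ * X)^2) * h2 - (X * κ + κ' * X^2 * κ) * h4 +
    ((1 + κ * X) + 2 * κ * X * (1 + κ * X)) * h1

end Sys

end Groth.Agent.Sga3.H790.RkSys
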