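import Groth.Agent.Sga3.H790.RkSplit2

/-!
# Solutions over an affine scheme with split torus
-/

set_option autoImplicit false
universe u
open CategoryTheory MonoidalCategory CartesianMonoidalCategory MonObj GrpObj AlgebraicGeometry Limits

namespace Groth.Agent.Sga3.H790.RkFam

open Groth.Agent.Sga3B Groth.Agent.Sga3B.DSPts Groth.Agent.Sga3B.GaPts Groth.Agent.Sga3B.InfConj
open Groth.Agent.Sga3.H790.RkSys

section Fn

variable {S : Scheme.{u}} {R : Type u} [CommRing R] {v : Spec (.of R) ⟶ S}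

/-- The `R`-algebra of functions of a scheme over `Spec R`. -/
def Fn {Y : Over S} (_ : Y ⟶ Over.mk v) : Type u := Γ(Y.left, ⊤)

instance {Y : Over S} (f : Y ⟶ Over.mk v) : CommRing (Fn f) := inferInstanceAs (CommRing Γ(Y.left, ⊤))

/-- the structure morphism -/
noncomputable def Fn.alg {Y : Over S} (f : Y ⟶ Over.mk v) : R →+* Γ(Y.left, ⊤) :=
  ((Scheme.ΓSpecIso (.of R)).inv ≫ f.left.appTop).hom

noncomputable instance {Y : Over S} (f : Y ⟶ Over.mk v) : Algebra R (Fn f) :=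
  RingHom.toAlgebra (S := Fn f) (Fn.alg f)

/-- The canonical morphism to `Spec` of the global functions. -/
noncomputable def can {Y : Over S} (f : Y ⟶ Over.mk v) : Y ⟶ E v (Fn f) :=
  Over.homMk (Y.left.toSpecΓ) (by
    change Y.left.toSpecΓ ≫ Spec.map (CommRingCat.ofHom (Fn.alg f)) ≫ v = Y.hom
    have h : Y.left.toSpecΓ ≫ Spec.map (CommRingCat.ofHom (Fn.alg f)) = f.left :=
      toSpecΓ_SpecMap_eq f.left
    rw [← Category.assoc, h]
    exact Over.w f)

lemma can_Est {Y : Over S} (f : Y ⟶ Over.mk v) : can f ≫ Est v (Fn f) = f := by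
  ext1
  exact toSpecΓ_SpecMap_eq f.left

lemma can_fn {Y : Over S} (f : Y ⟶ Over.mk v) (c : Fn f) :
    (can f).left.appTop (fn v (Fn f) c) = (show Γ(Y.left, ⊤) from c) := by
  have h := ΓSpecIso_inv_comp_appTop Y.left (A := Γ(Y.left, ⊤)) (𝟙 _)
  rw [Spec.map_id, Category.comp_id] at h
  exact congr($h c)

/-- pullback of functions -/
noncomputable def Fn.map {Y Y' : Over S} (h : Y' ⟶ Y) (f : Y ⟶ Over.mk v) : Fn f →ₐ[R] Fn (h ≫ f) :=
  { (h.left.appTop.hom : Γ(Y.left, ⊤) →+* Γ(Y'.left, ⊤)) with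
    commutes' := fun r => by
      change h.left.appTop (f.left.appTop _) = (h ≫ f).left.appTop _
      rw [Over.comp_left, Scheme.Hom.comp_appTop]
      rfl }

end Fn

variable {S : Scheme.{u}} {R : Type u} [CommRing R] {v : Spec (.of R) ⟶ S}
  {G T : Over S} [GrpObj G] [GrpObj T] (i : T ⟶ G) [IsMonHom i] {α : T ⟶ Red.Gm S}
  (pp pm : Red.Ga S ⟶ G) [IsMonHom pp] [IsMonHom pm]
  {M : Type} [AddCommGroup M]

lemma can_eGa {Y : Over S} (f : Y ⟶ Over.mk v) (x : Y ⟶ Red.Ga S) :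
    can f ≫ eGa v (Fn f) (Red.gaFn x : Fn f) = x := by
  apply gaFn_injective
  rw [gaFn_comp, gaFn_eGa]
  exact can_fn f _

/-- The `D(M)`-point of `Y` given by units of functions. -/
noncomputable def yD {Y : Over S} (f : Y ⟶ Over.mk v) (t : TP M (Fn f)) : Y ⟶ Red.DS S M :=
  dsEquiv Y M ((Units.coeHom (Fn f)).comp t : Multiplicative M →* Fn f)

lemma can_eD {Y : Over S} (f : Y ⟶ Over.mk v) (t : TP M (Fn f)) :
    can f ≫ eD v (Fn f) t = yD f t := by
  rw [eD, dsEquiv_naturality, yD]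
  congr 1
  ext m
  exact can_fn f _

lemma yD_mul {Y : Over S} (f : Y ⟶ Over.mk v) (t t' : TP M (Fn f)) :
    yD f (t * t') = yD f t * yD f t' := by
  rw [← can_eD, ← can_eD, ← can_eD, eD_mul, MonObj.comp_mul]

lemma comp_yD {Y Y' : Over S} (h : Y' ⟶ Y) (f : Y ⟶ Over.mk v) (t : TP M (Fn f)) :
    h ≫ yD f t = yD (h ≫ f) (TP.map (Fn.map h f).toRingHom t) := by
  rw [yD, dsEquiv_naturality, yD]
  rfl

/-- The unit of functions given by a point of `𝔾_m`. -/
noncomputable def gU {Y : Over S} (f : Y ⟶ Over.mk v) (z : Y ⟶ Red.Gm S) : (Fn f)ˣ :=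
  (isUnit_gmFn z).unit

lemma coe_gU {Y : Over S} (f : Y ⟶ Over.mk v) (z : Y ⟶ Red.Gm S) :
    (gU f z : Fn f) = Red.gmFn z := rfl

lemma gU_mul {Y : Over S} (f : Y ⟶ Over.mk v) (z z' : Y ⟶ Red.Gm S) :
    gU f (z * z') = gU f z * gU f z' := by
  apply Units.ext
  rw [Units.val_mul, coe_gU, coe_gU, coe_gU]
  exact gmFn_mul z z'

lemma gU_comp {Y Y' : Over S} (h : Y' ⟶ Y) (f : Y ⟶ Over.mk v) (z : Y ⟶ Red.Gm S) :
    gU (h ≫ f) (h ≫ z) = Units.map (Fn.map h f).toRingHom.toMonoidHom (gU f z) := by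
  apply Units.ext
  rw [coe_gU]
  exact gmFn_comp h z

/-- Local existence, from the abstract theorem. -/
theorem exists_rfam_of_spl [IsOpenImmersion (Om i pp pm).left] (s : Spl v α M)
    (hpp : ∀ (X : Over S) (t : X ⟶ T) (x : X ⟶ Red.Ga S), ∃ x' : X ⟶ Red.Ga S,
      x' ≫ pp = (t ≫ i) * (x ≫ pp) * (t ≫ i)⁻¹ ∧ Red.gaFn x' = Red.gmFn (t ≫ α) * Red.gaFn x)
    (hpm : ∀ (X : Over S) (t : X ⟶ T) (y : X ⟶ Red.Ga S), ∃ y' : X ⟶ Red.Ga S,
      y' ≫ pm = (t ≫ i) * (y ≫ pm) * (t ≫ i)⁻¹ ∧ Red.gaFn y' * Red.gmFn (t ≫ α) = Red.gaFn y)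
    (lam : M →+ ℤ) (hlam : lam s.m ≠ 0)
    (hnc : ∀ P : Ideal R, P.IsPrime → ∃ (K : Type u) (_ : Field K) (_ : IsAlgClosed K)
      (_ : Algebra R K), RingHom.ker (algebraMap R K) = P ∧
      ∃ (B : Type u) (_ : CommRing B) (_ : Algebra R B) (_ : K →ₐ[R] B) (x y : B),
        (eGa v B x ≫ pp) * (eGa v B y ≫ pm) ≠ (eGa v B y ≫ pm) * (eGa v B x ≫ pp)) :
    ∃ (a : Over.mk v ⟶ Red.Gm S) (β : Red.Gm S ⊗ Over.mk v ⟶ T),
      RFam i α pp pm (Over.mk v) a β := by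
  obtain ⟨a₀, F, hFnat, hFm, hOm, hform⟩ := RkSys.main (sysOf i pp pm s hpp hpm) lam hlam hnc
  let X : Over S := Over.mk v
  let aX : (Fn (𝟙 X))ˣ := Units.map (algebraMap R (Fn (𝟙 X))).toMonoidHom a₀
  let a : X ⟶ Red.Gm S := gmPt X aX
  let Y₀ : Over S := Red.Gm S ⊗ X
  let f₀ : Y₀ ⟶ X := snd _ _
  let z₀ : Y₀ ⟶ Red.Gm S := fst _ _
  let β : Y₀ ⟶ T := lift (yD f₀ (F _ (gU f₀ z₀))) f₀ ≫ s.ρ
  -- evaluation of `a`
  have ha : ∀ {Y : Over S} (f : Y ⟶ X), Red.gmFn (f ≫ a) = (algebraMap R (Fn f) a₀ : Fn f) := by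
    intro Y f
    rw [gmFn_comp, gmFn_gmPt]
    change (Fn.map f (𝟙 X)) (algebraMap R (Fn (𝟙 X)) a₀) = _
    rw [AlgHom.commutes]
    rfl
  -- evaluation of `β`
  have hβ : ∀ {Y : Over S} (f : Y ⟶ X) (z : Y ⟶ Red.Gm S),
      lift z f ≫ β = lift (yD f (F _ (gU f z))) f ≫ s.ρ := by
    intro Y f z
    have e1 : lift z f ≫ f₀ = f := lift_snd _ _
    have e2 : lift z f ≫ z₀ = z := lift_fst _ _
    change lift z f ≫ lift (yD f₀ (F _ (gU f₀ z₀))) f₀ ≫ s.ρ = _
    rw [comp_lift_assoc, comp_yD, ← hFnat, ← gU_comp, e2]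
    have e3 : ∀ (f' : Y ⟶ X), f' = f →
        lift (yD f' (F _ (gU f' z))) f' ≫ s.ρ = lift (yD f (F _ (gU f z))) f ≫ s.ρ := by
      rintro _ rfl; rfl
    exact e3 _ e1
  have formG : ∀ (Y : Over S) (f : Y ⟶ X) (x y x' y' : Y ⟶ Red.Ga S) (z : Y ⟶ Red.Gm S),
      Red.gmFn z = 1 + Red.gmFn (f ≫ a) * Red.gaFn x * Red.gaFn y →
      Red.gaFn x' * Red.gmFn z = Red.gaFn x → Red.gaFn y' * Red.gmFn z = Red.gaFn y →
      (x ≫ pp) * (y ≫ pm) = (y' ≫ pm) * (lift z f ≫ β ≫ i) * (x' ≫ pp) := by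
    intro Y f x y x' y' z hz hx hy
    let x₀ : Fn f := Red.gaFn x
    let y₀ : Fn f := Red.gaFn y
    let x₀' : Fn f := Red.gaFn x'
    let y₀' : Fn f := Red.gaFn y'
    have hz' : (gU f z : Fn f) = 1 + algebraMap R (Fn f) a₀ * x₀ * y₀ := by
      rw [ha] at hz
      exact hz
    have h1 := hform (Fn f) x₀ y₀ (gU f z) hz'
    have hx' : (((gU f z)⁻¹ : (Fn f)ˣ) : Fn f) * x₀ = x₀' := by
      have hx2 : x₀' * (gU f z : Fn f) = x₀ := hx
      rw [← hx2, mul_comm x₀', ← _root_.mul_assoc, Units.inv_mul, _root_.one_mul]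
    have hy' : (((gU f z)⁻¹ : (Fn f)ˣ) : Fn f) * y₀ = y₀' := by
      have hy2 : y₀' * (gU f z : Fn f) = y₀ := hy
      rw [← hy2, mul_comm y₀', ← _root_.mul_assoc, Units.inv_mul, _root_.one_mul]
    rw [hx', hy'] at h1
    have h2 : (eGa v (Fn f) x₀ ≫ pp) * (eGa v (Fn f) y₀ ≫ pm) =
        (eGa v (Fn f) y₀' ≫ pm) * (eT s (Fn f) (F _ (gU f z)) ≫ i) * (eGa v (Fn f) x₀' ≫ pp) := h1
    have h3 := congrArg (fun g => can f ≫ g) h2
    simp only [comp_mul] at h3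
    rw [← Category.assoc (can f) (eGa v (Fn f) x₀), ← Category.assoc (can f) (eGa v (Fn f) y₀),
      ← Category.assoc (can f) (eGa v (Fn f) x₀'), ← Category.assoc (can f) (eGa v (Fn f) y₀'),
      can_eGa, can_eGa, can_eGa, can_eGa, eT, Category.assoc, comp_lift_assoc, can_eD, can_Est] at h3
    rw [h3, ← Category.assoc (lift z f), hβ, Category.assoc]
  have formU : ∀ (Y : Over S) (f : Y ⟶ X) (x y : Y ⟶ Red.Ga S),
      IsUnit (1 + Red.gmFn (f ≫ a) * Red.gaFn x * Red.gaFn y) →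
      ∃ (x' y' : Y ⟶ Red.Ga S) (z : Y ⟶ Red.Gm S),
        Red.gmFn z = 1 + Red.gmFn (f ≫ a) * Red.gaFn x * Red.gaFn y ∧
        Red.gaFn x' * Red.gmFn z = Red.gaFn x ∧ Red.gaFn y' * Red.gmFn z = Red.gaFn y ∧
        (x ≫ pp) * (y ≫ pm) = (y' ≫ pm) * (lift z f ≫ β ≫ i) * (x' ≫ pp) := by
    intro Y g x y ⟨uz, huz⟩
    let z : Y ⟶ Red.Gm S := gmPt Y uz
    let x' : Y ⟶ Red.Ga S := gaPt Y (Red.gaFn x * ((uz⁻¹ : Γ(Y.left, ⊤)ˣ) : Γ(Y.left, ⊤)))
    let y' : Y ⟶ Red.Ga S := gaPt Y (Red.gaFn y * ((uz⁻¹ : Γ(Y.left, ⊤)ˣ) : Γ(Y.left, ⊤)))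
    have hz : Red.gmFn z = 1 + Red.gmFn (g ≫ a) * Red.gaFn x * Red.gaFn y := by
      rw [gmFn_gmPt, huz]
    have hx : Red.gaFn x' * Red.gmFn z = Red.gaFn x := by
      simp only [x', z, gaFn_gaPt, gmFn_gmPt]
      linear_combination (Red.gaFn x) * uz.mul_inv
    have hy : Red.gaFn y' * Red.gmFn z = Red.gaFn y := by
      simp only [y', z, gaFn_gaPt, gmFn_gmPt]
      linear_combination (Red.gaFn y) * uz.mul_inv
    exact ⟨x', y', z, hz, hx, hy, formG Y g x y x' y' z hz hx hy⟩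
  refine ⟨a, β, ?_, ?_, ?_, formU⟩
  · intro Y f z z'
    rw [hβ, hβ, hβ, gU_mul, map_mul, yD_mul, s.ρ_mul]
  · intro Y f z
    rw [← Category.assoc, hβ, Category.assoc, s.hm]
    apply gmFn_injective
    rw [gmFn_chi, yD, dsChar_dsEquiv]
    have h1 : ((F (Fn f) (gU f z) (Multiplicative.ofAdd s.m) : (Fn f)ˣ) : Fn f) =
        (((gU f z) ^ 2 : (Fn f)ˣ) : Fn f) := congrArg Units.val (hFm (Fn f) (gU f z))
    refine h1.trans ?_
    rw [pow_two, pow_two, gmFn_mul, Units.val_mul, coe_gU]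
    rfl
  · intro Y f x y
    constructor
    · rintro ⟨w, hw⟩
      -- reduce to residue fields
      refine isUnit_of_cover (fun y₁ : Y.left => Spec (Y.left.residueField y₁))
        (fun y₁ => Y.left.fromSpecResidueField y₁) ?_ _ fun y₁ => ?_
      · intro y₁
        obtain ⟨q⟩ : Nonempty (Spec (Y.left.residueField y₁)) := inferInstance
        exact ⟨y₁, q, Scheme.fromSpecResidueField_apply _ _⟩
      · let K : Type u := Y.left.residueField y₁
        let k : Spec (.of K) ⟶ (Over.mk v : Over S).left := Y.left.fromSpecResidueField y₁ ≫ f.left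
        let φ : CommRingCat.of R ⟶ CommRingCat.of K := Spec.preimage k
        have hφ : Spec.map φ = k := Spec.map_preimage k
        let _ : Algebra R K := φ.hom.toAlgebra
        let j : E v K ⟶ Y := Over.homMk (Y.left.fromSpecResidueField y₁) (by
          change Y.left.fromSpecResidueField y₁ ≫ Y.hom = Spec.map φ ≫ v
          rw [hφ]
          change _ = (Y.left.fromSpecResidueField y₁ ≫ f.left) ≫ v
          rw [Category.assoc]
          congr 1
          exact (Over.w f).symm)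
        have hj : j ≫ f = Est v K := by
          ext1
          change k = Spec.map φ
          rw [hφ]
        obtain ⟨x₀, hx₀⟩ := exists_eGa v (j ≫ x)
        obtain ⟨y₀, hy₀⟩ := exists_eGa v (j ≫ y)
        have hOm1 : (sysOf i pp pm s hpp hpm).Om K
            ((sysOf i pp pm s hpp hpm).p K x₀ * (sysOf i pp pm s hpp hpm).q K y₀) := by
          obtain ⟨ty, hty⟩ := exists_eGa v ((j ≫ w) ≫ fst _ _ ≫ fst _ _)
          obtain ⟨tt, htt⟩ := exists_eT s ((j ≫ w) ≫ fst _ _ ≫ snd _ _)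
          obtain ⟨tx, htx⟩ := exists_eGa v ((j ≫ w) ≫ snd _ _)
          refine ⟨ty, tt, tx, ?_⟩
          have hw1 : j ≫ w = lift (lift (eGa v K ty) (eT s K tt)) (eGa v K tx) := by
            rw [← hty, ← htt, ← htx]
            apply CartesianMonoidalCategory.hom_ext
            · apply CartesianMonoidalCategory.hom_ext
              · simp
              · simp
            · simp
          change (eGa v K x₀ ≫ pp) * (eGa v K y₀ ≫ pm) = (eGa v K ty ≫ pm) * (eT s K tt ≫ i) *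
            (eGa v K tx ≫ pp)
          rw [← lift_Om, ← hw1, ← hx₀, ← hy₀, Category.assoc j w, hw, comp_mul, Category.assoc,
            Category.assoc]
        rw [hOm K x₀ y₀] at hOm1
        have h5 : (Y.left.fromSpecResidueField y₁).appTop
            (1 + Red.gmFn (f ≫ a) * Red.gaFn x * Red.gaFn y) =
            fn v K (1 + algebraMap R K a₀ * x₀ * y₀) := by
          change j.left.appTop (1 + Red.gmFn (f ≫ a) * Red.gaFn x * Red.gaFn y) = _
          rw [map_add, map_mul, map_mul, map_one, ← gmFn_comp, ← gaFn_comp, ← gaFn_comp, hx₀, hy₀,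
            gaFn_eGa, gaFn_eGa, map_add, map_mul, map_mul, map_one, ← Category.assoc, hj, ha]
          congr 3
          exact congr($(Scheme.ΓSpecIso_inv_naturality (CommRingCat.ofHom (algebraMap R K))) a₀).symm
        rw [h5]
        exact hOm1.map (fn v K)
    · intro hu
      obtain ⟨x', y', z, -, -, -, h4⟩ := formU Y f x y hu
      refine ⟨lift (lift y' (lift z f ≫ β)) x', ?_⟩
      rw [lift_Om, h4, Category.assoc]

end Groth.Agent.Sga3.H790.RkFam
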