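import Groth.Agent.Sga3.H790.RkField2
import Mathlib.Algebra.Polynomial.Roots
import Mathlib.FieldTheory.IsAlgClosed.Basic

/-!
# The rank one formula for rank one systems
-/

set_option autoImplicit false

universe u

namespace Groth.Agent.Sga3.H790.RkSys

variable {R : Type u} [CommRing R] {M : Type} [AddCommGroup M] {𝒮 : Sys R M}
variable {B C : Type u} [CommRing B] [Algebra R B] [CommRing C] [Algebra R C]

namespace Sys

/-- The complement of `U` in a field is finite. -/
theorem finite_compl (K : Type u) [Field K] [Algebra R K] : {c : K | ¬ 𝒮.U K c}.Finite := by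
  obtain ⟨J, hJ⟩ := exists_idealK K 𝒮
  obtain ⟨j, hj, hj0⟩ := exists_mem_eval_ne K hJ (c := 0) 𝒮.U_zero
  have hj1 : j ≠ 0 := by rintro rfl; exact hj0 Polynomial.eval_zero
  refine (Polynomial.finite_setOfPred_isRoot hj1).subset ?_
  intro c hc
  by_contra hcr
  apply hc
  have h1 : IsUnit (((Polynomial.aeval c : Polynomial K →ₐ[K] K).restrictScalars R) j) := by
    rw [isUnit_iff_ne_zero]
    intro h
    apply hcr
    change Polynomial.eval c j = 0
    rw [← Polynomial.coe_aeval_eq_eval]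
    exact h
  have := U_of_isUnit K hJ hj _ h1
  have h4 : ((Polynomial.aeval c : Polynomial K →ₐ[K] K).restrictScalars R) Polynomial.X = c :=
    Polynomial.aeval_X c
  rwa [h4] at this

variable (lam : M →+ ℤ) (hlam : lam 𝒮.m ≠ 0)

include hlam

theorem kap'_eq_zero (K : Type u) [Field K] [Algebra R K] (h : algebraMap R K 𝒮.kap = 0) :
    algebraMap R K 𝒮.kap' = 0 := by
  have := kap_rel lam hlam K (fun B _ _ φ u hu => af_eq_field K lam hlam φ hu)
  rw [h, zero_sub] at this
  rcases mul_eq_zero.mp this with h1 | h1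
  · exact h1
  · exact neg_eq_zero.mp h1

theorem kap_eq_zero (K : Type u) [Field K] [Algebra R K] (h : algebraMap R K 𝒮.kap' = 0) :
    algebraMap R K 𝒮.kap = 0 := by
  have := kap_rel' lam hlam K (fun B _ _ φ u hu => bf_eq_field K lam hlam φ hu)
  rw [h, zero_sub] at this
  rcases mul_eq_zero.mp this with h1 | h1
  · exact h1
  · exact neg_eq_zero.mp h1

theorem bf_one_of_zero (K : Type u) [Field K] [Algebra R K] (h : algebraMap R K 𝒮.kap = 0)
    (φ : K →ₐ[R] B) {u : B} (hu : 𝒮.U B u) : 𝒮.bf B u = 1 := by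
  have h1 := bf_eq_field K lam hlam φ hu
  rw [← φ.commutes, h, map_zero, zero_mul, add_zero, one_mul] at h1
  exact h1

theorem af_one_of_zero (K : Type u) [Field K] [Algebra R K] (h : algebraMap R K 𝒮.kap = 0)
    (φ : K →ₐ[R] B) {u : B} (hu : 𝒮.U B u) : 𝒮.af B u = 1 := by
  have h1 := af_eq_field K lam hlam φ hu
  rw [← φ.commutes, kap'_eq_zero lam hlam K h, map_zero, zero_mul, add_zero, one_mul] at h1
  exact h1

/-- If `κ` vanishes in an infinite field then `U` is everything. -/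
theorem U_all_field (K : Type u) [Field K] [Infinite K] [Algebra R K]
    (h : algebraMap R K 𝒮.kap = 0) (c : K) : 𝒮.U K c := by
  have hfin := finite_compl (𝒮 := 𝒮) K
  have hfin2 : {v : K | ¬ 𝒮.U K (c - v)}.Finite := by
    have : {v : K | ¬ 𝒮.U K (c - v)} = (fun v => c - v) ⁻¹' {v : K | ¬ 𝒮.U K v} := rfl
    rw [this]
    exact hfin.preimage (sub_right_injective.injOn)
  obtain ⟨v, hv⟩ := ((hfin.union hfin2).infinite_compl).nonempty
  simp only [Set.mem_compl_iff, Set.mem_union, Set.mem_ofPred_eq, not_or, not_not] at hv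
  have h1 := eqI lam hlam (𝒮 := 𝒮) (u := c - v) (v := v) hv.1 (by
    rw [bf_one_of_zero lam hlam K h (AlgHom.id R K) hv.1, mul_one]; exact hv.2)
  have h2 := h1.1
  rwa [sub_add_cancel] at h2

theorem U_all (K : Type u) [Field K] [Algebra R K]
    (h : algebraMap R K 𝒮.kap = 0) (φ : K →ₐ[R] B) (u : B) : 𝒮.U B u := by
  apply 𝒮.U_of_algClosed
  intro L _ _ _ ψ
  have hinf : Infinite L := IsAlgClosed.instInfinite
  apply U_all_field lam hlam L
  rw [← (ψ.comp φ).commutes, h, map_zero]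

theorem tf_one_of_zero (K : Type u) [Field K] [Algebra R K] (h : algebraMap R K 𝒮.kap = 0)
    (φK : K →ₐ[R] B) (u : B) : 𝒮.tf B u = 1 := by
  -- the universal case
  have hX : 𝒮.tf (Polynomial K) Polynomial.X = 1 := by
    refine MonoidHom.ext fun n => Units.ext ?_
    set z := 𝒮.tf (Polynomial K) Polynomial.X n with hz
    obtain ⟨c, hc, hc'⟩ := Polynomial.isUnit_iff.mp z.isUnit
    have hUX : 𝒮.U (Polynomial K) Polynomial.X :=
      U_all lam hlam K h (IsScalarTower.toAlgHom R K (Polynomial K)) _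
    have h1 := map_tf ((Polynomial.aeval (0 : K)).restrictScalars R) hUX
    have h2 : ((Polynomial.aeval (0 : K) : Polynomial K →ₐ[K] K).restrictScalars R)
        Polynomial.X = 0 := Polynomial.aeval_X _
    rw [h2, tf_zero lam hlam] at h1
    have h3 := congrArg (fun t : TP M K => ((t n : Kˣ) : K)) h1
    have h4 : Polynomial.aeval (0 : K) (z : Polynomial K) = 1 := h3
    rw [← hc', Polynomial.aeval_C] at h4
    have h5 : c = 1 := h4
    change (z : Polynomial K) = 1
    rw [← hc', h5, Polynomial.C_1]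
  let _ : Algebra K B := φK.toRingHom.toAlgebra
  have _ : IsScalarTower R K B := IsScalarTower.of_algebraMap_eq' φK.comp_algebraMap.symm
  let φ : Polynomial K →ₐ[R] B := (Polynomial.aeval u).restrictScalars R
  have hφX : φ Polynomial.X = u := Polynomial.aeval_X u
  have hUX : 𝒮.U (Polynomial K) Polynomial.X :=
      U_all lam hlam K h (IsScalarTower.toAlgHom R K (Polynomial K)) _
  have h1 := map_tf φ hUX
  rw [hX, hφX] at h1
  rw [← h1]
  refine MonoidHom.ext fun n => Units.ext ?_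
  change φ ((1 : (Polynomial K)ˣ) : Polynomial K) = _
  rw [Units.val_one, map_one]
  rfl

/-- If `κ` vanishes in `K` then the root groups commute over `K`-algebras. -/
theorem comm_of_zero (K : Type u) [Field K] [Algebra R K] (h : algebraMap R K 𝒮.kap = 0)
    (φK : K →ₐ[R] B) (x y : B) : 𝒮.p B x * 𝒮.q B y = 𝒮.q B y * 𝒮.p B x := by
  have hU := U_all lam hlam K h φK (x * y)
  have h1 := rel_full lam hlam hU
  rw [bf_one_of_zero lam hlam K h φK hU, af_one_of_zero lam hlam K h φK hU,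
    tf_one_of_zero lam hlam K h φK, mul_one, mul_one, Rel, map_one, mul_one] at h1
  exact h1

/-- In the unit case `bf u = 1/(1+κu)`. -/
theorem bf_eq (hk : IsUnit 𝒮.kap) {u : B} (hu : 𝒮.U B u) :
    (1 + algebraMap R B 𝒮.kap * u) * 𝒮.bf B u = 1 := by
  have h1 := db_eq lam hlam hu
  have h2 := db_eq' lam hlam hu
  rw [h1] at h2
  have hkB : IsUnit (algebraMap R B 𝒮.kap) := hk.map _
  have h3 : 𝒮.bf B u * ((1 + algebraMap R B 𝒮.kap * u) * 𝒮.bf B u) = 𝒮.bf B u * 1 := by
    apply hkB.mul_left_cancel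
    linear_combination -h2
  have hbu : IsUnit (𝒮.bf B u) := by
    by_contra hnu
    obtain ⟨P, hP, hmem⟩ := exists_max_ideal_of_mem_nonunits hnu
    let _ := Ideal.Quotient.field P
    have h4 := bf_eq_field (B := B ⧸ P) (B ⧸ P) lam hlam (AlgHom.id R _)
      (𝒮.U_map (Ideal.Quotient.mkₐ R P) hu)
    rw [← map_bf (Ideal.Quotient.mkₐ R P) hu] at h4
    have h5 : Ideal.Quotient.mkₐ R P (𝒮.bf B u) = 0 := Ideal.Quotient.eq_zero_iff_mem.mpr hmem
    rw [h5, mul_zero] at h4
    exact zero_ne_one h4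
  exact hbu.mul_left_cancel h3

theorem af_eq (hk : IsUnit 𝒮.kap') {u : B} (hu : 𝒮.U B u) :
    (1 + algebraMap R B 𝒮.kap' * u) * 𝒮.af B u = 1 := by
  have h1 := da_eq lam hlam hu
  have h2 := da_eq' lam hlam hu
  rw [h1] at h2
  have hkB : IsUnit (algebraMap R B 𝒮.kap') := hk.map _
  have h3 : 𝒮.af B u * ((1 + algebraMap R B 𝒮.kap' * u) * 𝒮.af B u) = 𝒮.af B u * 1 := by
    apply hkB.mul_left_cancel
    linear_combination -h2
  have hbu : IsUnit (𝒮.af B u) := by
    by_contra hnu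
    obtain ⟨P, hP, hmem⟩ := exists_max_ideal_of_mem_nonunits hnu
    let _ := Ideal.Quotient.field P
    have h4 := af_eq_field (B := B ⧸ P) (B ⧸ P) lam hlam (AlgHom.id R _)
      (𝒮.U_map (Ideal.Quotient.mkₐ R P) hu)
    rw [← map_af lam hlam (Ideal.Quotient.mkₐ R P) hu] at h4
    have h5 : Ideal.Quotient.mkₐ R P (𝒮.af B u) = 0 := Ideal.Quotient.eq_zero_iff_mem.mpr hmem
    rw [h5, mul_zero] at h4
    exact zero_ne_one h4
  exact hbu.mul_left_cancel h3

theorem kap_eq_kap' (hk : IsUnit 𝒮.kap') : 𝒮.kap = 𝒮.kap' := by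
  have h1 := kap_rel lam hlam R (fun B _ _ φ u hu => af_eq lam hlam hk hu)
  have h2 : 𝒮.kap' * (𝒮.kap - 𝒮.kap') = 𝒮.kap' * 0 := by
    rw [mul_zero]; exact h1
  exact sub_eq_zero.mp (hk.mul_left_cancel h2)

theorem chi_eq (hk : IsUnit 𝒮.kap) {u : B} (hu : 𝒮.U B u) :
    (𝒮.chi (𝒮.tf B u) : B) = (1 + algebraMap R B 𝒮.kap * u) ^ 2 := by
  have h1 := bf_eq lam hlam hk hu
  have h2 := chi_inv_eq' lam hlam hu
  rw [db_eq lam hlam hu] at h2
  have h3 : (((𝒮.chi (𝒮.tf B u))⁻¹ : Bˣ) : B) * (1 + algebraMap R B 𝒮.kap * u) ^ 2 = 1 := by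
    rw [h2]
    linear_combination ((1 + algebraMap R B 𝒮.kap * u) - (algebraMap R B 𝒮.kap * u) *
      ((1 + algebraMap R B 𝒮.kap * u) * 𝒮.bf B u + 1)) * h1
  have h4 := congrArg (fun z => (𝒮.chi (𝒮.tf B u) : B) * z) h3
  simp only [mul_one, Units.mul_inv_cancel_left] at h4
  exact h4.symm

/-- In the unit case, `U = {1 + κ u invertible}`. -/
theorem U_iff (hk : IsUnit 𝒮.kap) (u : B) :
    𝒮.U B u ↔ IsUnit (1 + algebraMap R B 𝒮.kap * u) := by
  constructor
  · intro hu
    exact IsUnit.of_mul_eq_one _ (bf_eq lam hlam hk hu)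
  · intro hu
    apply 𝒮.U_of_algClosed
    intro L _ _ _ ψ
    have hinf : Infinite L := IsAlgClosed.instInfinite
    set κ := algebraMap R L 𝒮.kap with hκ
    have hκ0 : κ ≠ 0 := (hk.map (algebraMap R L)).ne_zero
    set z : L := 1 + κ * ψ u with hz
    have hz0 : z ≠ 0 := by
      have := (hu.map ψ).ne_zero
      rwa [map_add, map_one, map_mul, ψ.commutes] at this
    -- points `w` with `(w - 1)/κ ∈ U`
    have hfin := finite_compl (𝒮 := 𝒮) L
    have h1 : {w : L | ¬ 𝒮.U L ((w - 1) / κ)}.Finite :=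
      hfin.preimage (f := fun w => (w - 1) / κ) (by
        intro a _ b _ hab
        have := (div_left_inj' hκ0).mp hab
        exact sub_left_injective this)
    have h2 : {w : L | ¬ 𝒮.U L ((z / w - 1) / κ)}.Finite := by
      have h3 : {w : L | ¬ 𝒮.U L ((z / w - 1) / κ)} ⊆ {0} ∪
          ((fun w => z / w) ⁻¹' {w : L | ¬ 𝒮.U L ((w - 1) / κ)} ∩ {0}ᶜ) := by
        intro w hw
        by_cases h0 : w = 0
        · exact Or.inl h0
        · exact Or.inr ⟨hw, h0⟩
      refine ((Set.finite_singleton (0 : L)).union ?_).subset h3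
      have h4 : Set.InjOn (fun w => z / w) ({0}ᶜ : Set L) := by
        intro a ha b hb hab
        simp only [Set.mem_compl_iff, Set.mem_singleton_iff] at ha hb
        simp only at hab
        rw [div_eq_div_iff ha hb] at hab
        exact (mul_left_cancel₀ hz0 hab).symm
      refine Set.Finite.of_finite_image (f := fun w => z / w) ?_
        (h4.mono Set.inter_subset_right)
      refine h1.subset ?_
      rintro _ ⟨w, ⟨hw, -⟩, rfl⟩
      exact hw
    obtain ⟨w, hw⟩ := (((h1.union h2).union (Set.finite_singleton (0 : L))).infinite_compl).nonempty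
    simp only [Set.mem_compl_iff, Set.mem_union, Set.mem_ofPred_eq, not_or, not_not,
      Set.mem_singleton_iff] at hw
    obtain ⟨⟨hw1, hw2⟩, hw0⟩ := hw
    set v := (w - 1) / κ with hv
    set v' := (z / w - 1) / κ with hv'
    have hbv : 𝒮.bf L v = w⁻¹ := by
      have h5 := bf_eq lam hlam hk hw1
      have h6 : 1 + κ * v = w := by rw [hv]; field_simp; ring
      rw [h6] at h5
      exact eq_inv_of_mul_eq_one_right h5
    have h7 := eqI lam hlam (𝒮 := 𝒮) (u := v' * w) (v := v) hw1 (by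
      rw [hbv, mul_inv_cancel_right₀ hw0]; exact hw2)
    have h8 : v' * w + v = ψ u := by
      rw [hv, hv', hz]
      field_simp
      ring
    rw [← h8]
    exact h7.1

end Sys

open Sys

/-- The abstract rank one formula. -/
theorem main (𝒮 : Sys R M) (lam : M →+ ℤ) (hlam : lam 𝒮.m ≠ 0)
    (hnc : ∀ P : Ideal R, P.IsPrime → ∃ (K : Type u) (_ : Field K) (_ : IsAlgClosed K)
      (_ : Algebra R K), RingHom.ker (algebraMap R K) = P ∧
      ∃ (B : Type u) (_ : CommRing B) (_ : Algebra R B) (_ : K →ₐ[R] B) (x y : B),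
        𝒮.p B x * 𝒮.q B y ≠ 𝒮.q B y * 𝒮.p B x) :
    ∃ (a : Rˣ) (F : ∀ (B : Type u) [CommRing B] [Algebra R B], Bˣ →* TP M B),
      (∀ {B C : Type u} [CommRing B] [Algebra R B] [CommRing C] [Algebra R C] (φ : B →ₐ[R] C)
        (z : Bˣ), F C (Units.map φ.toRingHom.toMonoidHom z) = TP.map φ.toRingHom (F B z)) ∧
      (∀ (B : Type u) [CommRing B] [Algebra R B] (z : Bˣ),
        F B z (Multiplicative.ofAdd 𝒮.m) = z ^ 2) ∧
      (∀ (B : Type u) [CommRing B] [Algebra R B] (x y : B),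
        𝒮.Om B (𝒮.p B x * 𝒮.q B y) ↔ IsUnit (1 + algebraMap R B a * x * y)) ∧
      (∀ (B : Type u) [CommRing B] [Algebra R B] (x y : B) (z : Bˣ),
        (z : B) = 1 + algebraMap R B a * x * y →
          𝒮.p B x * 𝒮.q B y =
            𝒮.q B ((z⁻¹ : Bˣ) * y) * 𝒮.i B (F B z) * 𝒮.p B ((z⁻¹ : Bˣ) * x)) := by
  -- `κ` is a unit
  have hk : IsUnit 𝒮.kap := by
    by_contra hnu
    obtain ⟨P, hP, hmem⟩ := exists_max_ideal_of_mem_nonunits hnu
    obtain ⟨K, _, _, _, hker, B, _, _, φ, x, y, hne⟩ := hnc P hP.isPrime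
    refine hne (comm_of_zero lam hlam K ?_ φ x y)
    have : 𝒮.kap ∈ RingHom.ker (algebraMap R K) := by rw [hker]; exact hmem
    exact this
  have hk' : IsUnit 𝒮.kap' := by
    by_contra hnu
    obtain ⟨P, hP, hmem⟩ := exists_max_ideal_of_mem_nonunits hnu
    obtain ⟨K, _, _, _, hker, B, _, _, φ, x, y, hne⟩ := hnc P hP.isPrime
    have h1 : 𝒮.kap' ∈ RingHom.ker (algebraMap R K) := by rw [hker]; exact hmem
    exact hne (comm_of_zero lam hlam K (kap_eq_zero lam hlam K h1) φ x y)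
  have hkk := kap_eq_kap' lam hlam hk'
  -- notation
  have hU : ∀ (B : Type u) [CommRing B] [Algebra R B] (z : Bˣ),
      𝒮.U B (algebraMap R B ((hk.unit⁻¹ : Rˣ) : R) * ((z : B) - 1)) ∧
      1 + algebraMap R B 𝒮.kap * (algebraMap R B ((hk.unit⁻¹ : Rˣ) : R) * ((z : B) - 1)) = z := by
    intro B _ _ z
    have h1 : 1 + algebraMap R B 𝒮.kap *
        (algebraMap R B ((hk.unit⁻¹ : Rˣ) : R) * ((z : B) - 1)) = z := by
      rw [← mul_assoc, ← map_mul]
      have : 𝒮.kap * ((hk.unit⁻¹ : Rˣ) : R) = 1 := hk.mul_val_inv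
      rw [this, map_one, one_mul, add_sub_cancel]
    refine ⟨?_, h1⟩
    rw [U_iff lam hlam hk, h1]
    exact z.isUnit
  let g : ∀ (B : Type u) [CommRing B] [Algebra R B], Bˣ → B := fun B _ _ z =>
    algebraMap R B ((hk.unit⁻¹ : Rˣ) : R) * ((z : B) - 1)
  have hbg : ∀ (B : Type u) [CommRing B] [Algebra R B] (z : Bˣ),
      𝒮.bf B (g B z) = (z⁻¹ : Bˣ) := by
    intro B _ _ z
    have h1 := bf_eq lam hlam hk (hU B z).1
    rw [(hU B z).2] at h1
    exact (Units.eq_inv_of_mul_eq_one_right (by rw [mul_comm]; exact h1))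
  refine ⟨hk.unit, fun B _ _ =>
    { toFun := fun z => 𝒮.tf B (g B z)
      map_one' := ?_
      map_mul' := ?_ }, ?_, ?_, ?_, ?_⟩
  · have : g B 1 = 0 := by
      change _ * ((1 : B) - 1) = 0
      rw [sub_self, mul_zero]
    rw [this, tf_zero lam hlam]
  · intro z w
    have h1 := eqI lam hlam (𝒮 := 𝒮) (B := B) (u := w * g B z) (v := g B w) (hU B w).1 (by
      rw [hbg, mul_comm, Units.inv_mul_cancel_left]; exact (hU B z).1)
    have h2 : (w : B) * g B z + g B w = g B (z * w) := by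
      change (w : B) * (_ * ((z : B) - 1)) + _ * ((w : B) - 1) = _ * (((z * w : Bˣ) : B) - 1)
      rw [Units.val_mul]
      ring
    have h3 : (w : B) * g B z * 𝒮.bf B (g B w) = g B z := by
      rw [hbg, mul_comm (w : B), mul_assoc, Units.mul_inv, mul_one]
    rw [h2, h3] at h1
    exact h1.2.2.1
  · intro B C _ _ _ _ φ z
    have h1 := map_tf φ (hU B z).1
    change 𝒮.tf C (g C _) = TP.map φ.toRingHom (𝒮.tf B (g B z))
    rw [h1]
    congr 1
    change _ = φ (_ * ((z : B) - 1))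
    rw [map_mul, φ.commutes, map_sub, map_one]
    rfl
  · intro B _ _ z
    have h1 := chi_eq lam hlam hk (hU B z).1
    rw [(hU B z).2] at h1
    ext
    rw [Units.val_pow_eq_pow_val, ← h1]
    rfl
  · intro B _ _ x y
    rw [𝒮.Om_pq_iff lam hlam, U_iff lam hlam hk, mul_assoc]
    rfl
  · intro B _ _ x y z hz
    have hz' : x * y = g B z := by
      change x * y = algebraMap R B ((hk.unit⁻¹ : Rˣ) : R) * ((z : B) - 1)
      rw [hz, add_sub_cancel_left, mul_assoc, ← mul_assoc, ← map_mul]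
      have : ((hk.unit⁻¹ : Rˣ) : R) * (hk.unit : R) = 1 := Units.inv_mul _
      rw [this, map_one, one_mul]
    have h1 := rel_full lam hlam (x := x) (y := y) (by rw [hz']; exact (hU B z).1)
    have haf : 𝒮.af B (g B z) = (z⁻¹ : Bˣ) := by
      have h1 := af_eq lam hlam hk' (hU B z).1
      rw [← hkk, (hU B z).2] at h1
      exact (Units.eq_inv_of_mul_eq_one_right (by rw [mul_comm]; exact h1))
    rw [hz', haf, hbg, Sys.Rel, mul_comm y, mul_comm x] at h1
    exact h1

end Groth.Agent.Sga3.H790.RkSys
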