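import Groth.Agent.Sga3.H790.RkChar
import Groth.Agent.Sga3B.MaxTorBc636

/-!
# Splittings near a point; geometric fibres
-/

set_option autoImplicit false
universe u
open CategoryTheory MonoidalCategory CartesianMonoidalCategory MonObj GrpObj AlgebraicGeometry Limits

namespace Groth.Agent.Sga3.H790.RkFam

open Groth.Agent.Sga3B Groth.Agent.Sga3B.DSPts Groth.Agent.Sga3B.GaPts Groth.Agent.Sga3B.InfConj
open Groth.Agent.Sga3.H790.RkSys

section epi

variable {S : Scheme.{u}}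

lemma epi_of_left {X Y : Over S} (h : X ⟶ Y) [Epi h.left] : Epi h := by
  have : Epi ((Over.forget S).map h) := by
    change Epi h.left
    infer_instance
  exact (Over.forget S).epi_of_epi_map this

/-- If `Y` lies over the point `s`, then `Y × X → Y` is an epimorphism for `X` flat over `S` with `s`
in its image. -/
lemma epi_fst {Y X : Over S} [Flat X.hom] (s : S) (hY : ∀ y : Y.left, Y.hom y = s)
    (hs : s ∈ Set.range X.hom) : Epi (fst Y X) := by
  have h : IsPullback (fst Y X).left (snd Y X).left Y.hom X.hom :=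
    IsPullback.of_hasPullback _ _
  have h1 : Flat (fst Y X).left := MorphismProperty.of_isPullback (P := @Flat) h.flip inferInstance
  have h2 : Surjective (fst Y X).left := by
    refine ⟨fun y => ?_⟩
    obtain ⟨x, hx⟩ := hs
    obtain ⟨z, hz, -⟩ := Scheme.Pullback.exists_preimage_pullback y x ((hY y).trans hx.symm)
    exact ⟨z, hz⟩
  have : Epi (fst Y X).left := Flat.epi_of_flat_of_surjective _
  exact epi_of_left _

end epi

section spl

variable {S : Scheme.{u}} {T : Over S} [GrpObj T]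

/-- Restriction of a splitting to a localisation, where the character is constant. -/
theorem exists_spl_near {R : Type u} [CommRing R] {v : Spec (.of R) ⟶ S} {M : Type} [AddCommGroup M]
    (α : T ⟶ Red.Gm S) [IsMonHom α] (σ : T ⊗ Over.mk v ⟶ Red.DS S M) (ρ : Red.DS S M ⊗ Over.mk v ⟶ T)
    (σ_mul : ∀ (Y : Over S) (x y : Y ⟶ T) (t : Y ⟶ Over.mk v),
      lift (x * y) t ≫ σ = (lift x t ≫ σ) * (lift y t ≫ σ))
    (σρ : ∀ (Y : Over S) (x : Y ⟶ T) (t : Y ⟶ Over.mk v), lift (lift x t ≫ σ) t ≫ ρ = x)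
    (ρσ : ∀ (Y : Over S) (y : Y ⟶ Red.DS S M) (t : Y ⟶ Over.mk v), lift (lift y t ≫ ρ) t ≫ σ = y)
    [Etale v] (s : S) (hs : s ∈ Set.range v) :
    ∃ (R' : Type u) (_ : CommRing R') (v' : Spec (.of R') ⟶ S) (_ : Spl v' α M),
      Etale v' ∧ s ∈ Set.range v' := by
  obtain ⟨P, hP⟩ := hs
  have ρ_mul : ∀ (Y : Over S) (x y : Y ⟶ Red.DS S M) (t : Y ⟶ Over.mk v),
      lift (x * y) t ≫ ρ = (lift x t ≫ ρ) * (lift y t ≫ ρ) := by
    intro Y x y t
    have h := σ_mul Y (lift x t ≫ ρ) (lift y t ≫ ρ) t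
    rw [ρσ, ρσ] at h
    rw [← h, σρ]
  obtain ⟨e, m, he, hem⟩ := exists_const (v := v) (ρ ≫ α) (fun Y x y t => by
    rw [← Category.assoc, ρ_mul, MonObj.mul_comp _ _ α, Category.assoc, Category.assoc])
    (PrimeSpectrum.asIdeal P)
  let R' : Type u := Localization.Away e
  let j : Spec (.of R') ⟶ Spec (.of R) := Spec.map (CommRingCat.ofHom (algebraMap R R'))
  have hj : IsOpenImmersion j := Scheme.isOpenImmersion_SpecMap_localizationAway (R := .of R) e
  let v' : Spec (.of R') ⟶ S := j ≫ v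
  let J : Over.mk v' ⟶ Over.mk v := Over.homMk j rfl
  refine ⟨R', inferInstance, v', ⟨(T ◁ J) ≫ σ, (Red.DS S M ◁ J) ≫ ρ, ?_, ?_, ?_, m, ?_⟩, inferInstance, ?_⟩
  · intro Y x y t
    simp only [lift_whiskerLeft_assoc]
    exact σ_mul Y x y (t ≫ J)
  · intro Y x t
    simp only [lift_whiskerLeft_assoc]
    exact σρ Y x (t ≫ J)
  · intro Y x t
    simp only [lift_whiskerLeft_assoc]
    exact ρσ Y x (t ≫ J)
  · intro Y y t
    rw [Category.assoc, lift_whiskerLeft_assoc]
    apply hem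
    -- `e` is a unit
    have h1 : (algebraMap R (Fn (t ≫ J)) : R → Γ(Y.left, ⊤)) e =
        (algebraMap R' (Fn t) (algebraMap R R' e) : Γ(Y.left, ⊤)) := by
      change (t ≫ J).left.appTop ((Scheme.ΓSpecIso (.of R)).inv e) =
        t.left.appTop ((Scheme.ΓSpecIso (.of R')).inv (algebraMap R R' e))
      rw [Over.comp_left, Scheme.Hom.comp_appTop]
      change t.left.appTop (j.appTop _) = _
      congr 1
      exact congr($(Scheme.ΓSpecIso_inv_naturality (CommRingCat.ofHom (algebraMap R R'))) e).symm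
    change IsUnit ((algebraMap R (Fn (t ≫ J)) : R → Γ(Y.left, ⊤)) e)
    rw [h1]
    exact (IsLocalization.Away.algebraMap_isUnit e).map (algebraMap R' (Fn t))
  · have h2 : P ∈ Set.range j := by
      have h3 : Set.range (PrimeSpectrum.comap (algebraMap R R')) = PrimeSpectrum.basicOpen e :=
        PrimeSpectrum.localization_away_comap_range R' e
      have h4 : P ∈ Set.range (PrimeSpectrum.comap (algebraMap R R')) := by
        rw [h3]
        exact he
      exact h4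
    obtain ⟨Q, hQ⟩ := h2
    refine ⟨Q, ?_⟩
    rw [Scheme.Hom.comp_apply, hQ, hP]

theorem exists_spl (hT : Red.IsTorus T) (α : T ⟶ Red.Gm S) [IsMonHom α] (s : S) :
    ∃ (R : Type u) (_ : CommRing R) (v : Spec (.of R) ⟶ S) (r : ℕ) (_ : Spl v α (Fin r → ℤ)),
      Etale v ∧ s ∈ Set.range v := by
  obtain ⟨B, _, v, r, hv, hs, ⟨e⟩⟩ := TorusEtLoc920.exists_etale_split T hT s
  obtain ⟨σ, ρ, h1, h2, h3⟩ := DescIso.exists_families v
    (e ≪≫ (DsBc.constIso v (Red.diag (ULift.{u} ℤ) (Fin r → ℤ))).symm)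
  obtain ⟨R', _, v', sp, h4, h5⟩ := exists_spl_near α σ ρ h1 h2 h3 s hs
  exact ⟨R', inferInstance, v', r, sp, h4, h5⟩

/-- The constant character is not zero. -/
theorem Spl.m_ne_zero {R : Type u} [CommRing R] {v : Spec (.of R) ⟶ S} {M : Type} [AddCommGroup M]
    {α : T ⟶ Red.Gm S} (sp : Spl v α M) (s : S) [Flat v] (hs : s ∈ Set.range v)
    (hα : (Over.pullback (Red.geomPt s)).map α ≠ 1) : sp.m ≠ 0 := by
  intro hm
  apply hα
  let g := Red.geomPt s
  let X := Red.bc g T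
  let X' : Over S := (Over.map g).obj X
  let x : X' ⟶ T := (bcEquiv g X T).symm (𝟙 X)
  have h0 : (Over.pullback g).map α = bcEquiv g X (Red.Gm S) (x ≫ α) := by
    rw [← bcEquiv_comp, MulEquiv.apply_symm_apply, Category.id_comp]
  have hX' : ∀ y : X'.left, X'.hom y = s := by
    intro y
    have h1 : X'.hom y ∈ Set.range g := by
      change (X.hom ≫ g) y ∈ Set.range g
      rw [Scheme.Hom.comp_apply]
      exact ⟨_, rfl⟩
    rw [IsoFam.range_geomPt] at h1
    exact h1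
  have : Flat (Over.mk v : Over S).hom := ‹Flat v›
  have := epi_fst (Y := X') (X := Over.mk v) s hX' hs
  have h2 : x ≫ α = 1 := by
    rw [← cancel_epi (fst X' (Over.mk v)), MonObj.comp_one, ← Category.assoc]
    have h3 := sp.hm _ (lift (fst X' (Over.mk v) ≫ x) (snd X' (Over.mk v)) ≫ sp.σ) (snd X' (Over.mk v))
    rw [← Category.assoc, sp.σρ] at h3
    rw [h3, hm]
    apply gmFn_injective
    rw [gmFn_chi]
    have h4 : Red.gmFn (1 : X' ⊗ Over.mk v ⟶ Red.Gm S) = 1 := by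
      have h5 := gmFn_mul (1 : X' ⊗ Over.mk v ⟶ Red.Gm S) 1
      rw [_root_.mul_one (1 : X' ⊗ Over.mk v ⟶ Red.Gm S)] at h5
      exact (isUnit_gmFn (1 : X' ⊗ Over.mk v ⟶ Red.Gm S)).mul_left_cancel
        (h5.symm.trans (_root_.mul_one _).symm)
    rw [h4]
    exact map_one _
  rw [h0, h2, map_one]

lemma exists_lam {r : ℕ} {m : Fin r → ℤ} (hm : m ≠ 0) : ∃ lam : (Fin r → ℤ) →+ ℤ, lam m ≠ 0 := by
  obtain ⟨k, hk⟩ := Function.ne_iff.mp hm
  exact ⟨Pi.evalAddMonoidHom _ k, hk⟩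

end spl

section hnc

variable {S : Scheme.{u}} {R : Type u} [CommRing R] {v : Spec (.of R) ⟶ S}
  {G : Over S} [GrpObj G] (pp pm : Red.Ga S ⟶ G)

theorem exists_noncomm (hnc : ∀ s : S, ∃ (X : Over (Spec (CommRingCat.of (AlgebraicClosure (S.residueField s)))))
      (x y : X ⟶ Red.bc (Red.geomPt s) (Red.Ga S)),
      (x ≫ (Over.pullback (Red.geomPt s)).map pp) * (y ≫ (Over.pullback (Red.geomPt s)).map pm) ≠
        (y ≫ (Over.pullback (Red.geomPt s)).map pm) * (x ≫ (Over.pullback (Red.geomPt s)).map pp))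
    (P : Ideal R) [hP : P.IsPrime] :
    ∃ (K : Type u) (_ : Field K) (_ : IsAlgClosed K)
      (_ : Algebra R K), RingHom.ker (algebraMap R K) = P ∧
      ∃ (B : Type u) (_ : CommRing B) (_ : Algebra R B) (_ : K →ₐ[R] B) (x y : B),
        (eGa v B x ≫ pp) * (eGa v B y ≫ pm) ≠ (eGa v B y ≫ pm) * (eGa v B x ≫ pp) := by
  let K : Type u := AlgebraicClosure P.ResidueField
  have hker : RingHom.ker (algebraMap R K) = P := by
    rw [IsScalarTower.algebraMap_eq R P.ResidueField K, RingHom.ker_comp_of_injective _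
      (algebraMap P.ResidueField K).injective]
    exact Ideal.ker_algebraMap_residueField P
  refine ⟨K, inferInstance, inferInstance, inferInstance, hker, ?_⟩
  obtain ⟨s, θ, hθ⟩ := MaxTorBc636.exists_fac_geomPt (K := K)
    (Spec.map (CommRingCat.ofHom (algebraMap R K)) ≫ v)
  obtain ⟨X, x, y, hxy⟩ := hnc s
  let g := Red.geomPt s
  let X' : Over S := (Over.map g).obj X
  let x₁ : X' ⟶ Red.Ga S := (bcEquiv g X (Red.Ga S)).symm x
  let y₁ : X' ⟶ Red.Ga S := (bcEquiv g X (Red.Ga S)).symm y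
  have hne : (x₁ ≫ pp) * (y₁ ≫ pm) ≠ (y₁ ≫ pm) * (x₁ ≫ pp) := by
    intro h
    apply hxy
    have ex : x = bcEquiv g X (Red.Ga S) x₁ := (MulEquiv.apply_symm_apply _ _).symm
    have ey : y = bcEquiv g X (Red.Ga S) y₁ := (MulEquiv.apply_symm_apply _ _).symm
    rw [ex, ey, bcEquiv_comp, bcEquiv_comp, ← map_mul, ← map_mul, h]
  -- base change to `K`
  let Z : Scheme.{u} := pullback X.hom θ
  let p1 : Z ⟶ X.left := pullback.fst X.hom θ
  let p2 : Z ⟶ Spec (.of K) := pullback.snd X.hom θ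
  have hflat : Flat θ := inferInstance
  have hsurj : Surjective θ := by
    have : Subsingleton (Spec (CommRingCat.of (AlgebraicClosure (S.residueField s)))) :=
      inferInstanceAs (Subsingleton (PrimeSpectrum (AlgebraicClosure (S.residueField s))))
    obtain ⟨q⟩ : Nonempty (Spec (CommRingCat.of K)) := inferInstanceAs (Nonempty (PrimeSpectrum K))
    exact ⟨fun y => ⟨q, Subsingleton.elim _ _⟩⟩
  have hepi : Epi p1 := by
    have : Flat p1 := inferInstanceAs (Flat (pullback.fst X.hom θ))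
    have : Surjective p1 := inferInstanceAs (Surjective (pullback.fst X.hom θ))
    exact Flat.epi_of_flat_of_surjective _
  let Y : Over S := Over.mk (p1 ≫ X'.hom)
  let h : Y ⟶ X' := Over.homMk p1 rfl
  have hh : Epi h.left := hepi
  have hh' : Epi h := epi_of_left h
  have hne2 : (h ≫ x₁ ≫ pp) * (h ≫ y₁ ≫ pm) ≠ (h ≫ y₁ ≫ pm) * (h ≫ x₁ ≫ pp) := by
    intro he
    apply hne
    rw [← cancel_epi h, comp_mul, comp_mul]
    exact he
  -- an affine open
  obtain ⟨k, hk⟩ : ∃ k, Z.affineCover.f k ≫ ((h ≫ x₁ ≫ pp) * (h ≫ y₁ ≫ pm)).left ≠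
      Z.affineCover.f k ≫ ((h ≫ y₁ ≫ pm) * (h ≫ x₁ ≫ pp)).left := by
    by_contra hcon
    push Not at hcon
    apply hne2
    ext1
    exact Scheme.Cover.hom_ext Z.affineCover _ _ hcon
  let U := Z.affineCover.X k
  let B : Type u := Γ(U, ⊤)
  let ι₀ : Spec (.of B) ⟶ Z := U.isoSpec.inv ≫ Z.affineCover.f k
  let φ : CommRingCat.of K ⟶ CommRingCat.of B := Spec.preimage (ι₀ ≫ p2)
  have hφ : Spec.map φ = ι₀ ≫ p2 := Spec.map_preimage _
  let _ : Algebra R B := (φ.hom.comp (algebraMap R K)).toAlgebra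
  let φ' : K →ₐ[R] B := ⟨φ.hom, fun r => rfl⟩
  let j : E v B ⟶ Y := Over.homMk ι₀ (by
    change ι₀ ≫ p1 ≫ X.hom ≫ g = Spec.map (CommRingCat.ofHom (algebraMap R K) ≫ φ) ≫ v
    rw [Spec.map_comp, hφ, Category.assoc, Category.assoc, ← hθ]
    have : p1 ≫ X.hom = p2 ≫ θ := pullback.condition
    rw [reassoc_of% this]
    simp only [ι₀, g, Category.assoc])
  obtain ⟨x₂, hx₂⟩ := exists_eGa v (j ≫ h ≫ x₁)
  obtain ⟨y₂, hy₂⟩ := exists_eGa v (j ≫ h ≫ y₁)
  refine ⟨B, inferInstance, inferInstance, φ', x₂, y₂, ?_⟩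
  rw [← hx₂, ← hy₂]
  have e0 : ∀ a b : Y ⟶ G, (j ≫ a) * (j ≫ b) = j ≫ (a * b) := fun a b => (comp_mul _ _ _).symm
  have e1 : (j ≫ h ≫ x₁) ≫ pp = j ≫ (h ≫ x₁ ≫ pp) := by simp only [Category.assoc]
  have e2 : (j ≫ h ≫ y₁) ≫ pm = j ≫ (h ≫ y₁ ≫ pm) := by simp only [Category.assoc]
  rw [e1, e2, e0, e0]
  intro hcon
  apply hk
  have h5 := congrArg (fun t => t.left) hcon
  change (U.isoSpec.inv ≫ Z.affineCover.f k) ≫ _ = (U.isoSpec.inv ≫ Z.affineCover.f k) ≫ _ at h5
  rw [Category.assoc, Category.assoc] at h5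
  exact (cancel_epi _).mp h5

end hnc

end Groth.Agent.Sga3.H790.RkFam
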