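import Groth.Agent.Sga3.H790.RkSys
import Mathlib.FieldTheory.IsAlgClosed.AlgebraicClosure
import Mathlib.RingTheory.Ideal.Quotient.Operations

/-!
# Openness of the cell and equivariance for rank one systems
-/

set_option autoImplicit false

universe u

namespace Groth.Agent.Sga3.H790.RkSys

variable {R : Type u} [CommRing R] {M : Type} [AddCommGroup M] (𝒮 : Sys R M)
variable {B C : Type u} [CommRing B] [Algebra R B] [CommRing C] [Algebra R C]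

theorem TP.map_apply (φ : B →+* C) (t : TP M B) (m : Multiplicative M) :
    ((TP.map φ t m : Cˣ) : C) = φ (t m) := rfl

namespace Sys

theorem p_zero : 𝒮.p B 0 = 1 := by
  have := 𝒮.p_add B 0 0
  rw [add_zero] at this
  exact (mul_eq_left.mp this.symm)

theorem q_zero : 𝒮.q B 0 = 1 := by
  have := 𝒮.q_add B 0 0
  rw [add_zero] at this
  exact (mul_eq_left.mp this.symm)

theorem Om_map (φ : B →ₐ[R] C) {g : 𝒮.G B} (h : 𝒮.Om B g) : 𝒮.Om C (𝒮.map φ g) := by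
  obtain ⟨y, t, x, rfl⟩ := h
  exact ⟨φ y, TP.map φ.toRingHom t, φ x, by
    rw [map_mul, map_mul, 𝒮.map_q, 𝒮.map_i, 𝒮.map_p]⟩

theorem exists_ideal (g : 𝒮.G B) : ∃ J : Ideal B,
    (∀ (C : Type u) [CommRing C] [Algebra R C] (φ : B →ₐ[R] C),
      𝒮.Om C (𝒮.map φ g) ↔ J.map φ.toRingHom = ⊤) ∧ (𝒮.Om B g ↔ J = ⊤) := by
  obtain ⟨J, hJ⟩ := 𝒮.isOpen B g
  refine ⟨J, hJ, ?_⟩
  have := hJ B (AlgHom.id R B)
  rw [𝒮.map_id] at this
  refine this.trans ?_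
  have h2 : J.map (AlgHom.id R B).toRingHom = J := Ideal.map_id J
  rw [h2]

/-- The cell condition can be checked after extensions of residue fields. -/
theorem Om_of_fields {g : 𝒮.G B}
    (h : ∀ P : Ideal B, P.IsMaximal → ∃ (L : Type u) (_ : Field L) (_ : Algebra R L)
      (φ : B →ₐ[R] L), P ≤ RingHom.ker φ.toRingHom ∧ 𝒮.Om L (𝒮.map φ g)) : 𝒮.Om B g := by
  obtain ⟨J, hJ, hJ'⟩ := 𝒮.exists_ideal g
  rw [hJ']
  by_contra hne
  obtain ⟨P, hP, hle⟩ := Ideal.exists_le_maximal J hne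
  obtain ⟨L, _, _, φ, hφ, hO⟩ := h P hP
  rw [hJ] at hO
  have : J.map φ.toRingHom = ⊥ := by
    rw [eq_bot_iff, Ideal.map_le_iff_le_comap]
    exact hle.trans hφ
  rw [this] at hO
  exact bot_ne_top hO

/-- A geometric point of every maximal ideal. -/
theorem exists_algClosed (P : Ideal B) (hP : P.IsMaximal) :
    ∃ (L : Type u) (_ : Field L) (_ : IsAlgClosed L) (_ : Algebra R L)
      (φ : B →ₐ[R] L), P ≤ RingHom.ker φ.toRingHom := by
  let _ := Ideal.Quotient.field P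
  refine ⟨AlgebraicClosure (B ⧸ P), inferInstance, inferInstance, inferInstance,
    (IsScalarTower.toAlgHom R (B ⧸ P) (AlgebraicClosure (B ⧸ P))).comp
      (Ideal.Quotient.mkₐ R P), ?_⟩
  intro b hb
  rw [RingHom.mem_ker]
  have : (Ideal.Quotient.mkₐ R P) b = 0 := Ideal.Quotient.eq_zero_iff_mem.mpr hb
  change (IsScalarTower.toAlgHom R (B ⧸ P) (AlgebraicClosure (B ⧸ P)))
    ((Ideal.Quotient.mkₐ R P) b) = 0
  rw [this, map_zero]

/-- The cell condition on algebraically closed fields suffices. -/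
theorem Om_of_algClosed {g : 𝒮.G B}
    (h : ∀ (L : Type u) [Field L] [IsAlgClosed L] [Algebra R L] (φ : B →ₐ[R] L),
      𝒮.Om L (𝒮.map φ g)) : 𝒮.Om B g := by
  apply 𝒮.Om_of_fields
  intro P hP
  obtain ⟨L, _, _, _, φ, hφ⟩ := exists_algClosed (R := R) P hP
  exact ⟨L, inferInstance, inferInstance, φ, hφ, h L φ⟩

/-- If `g` lies in the cell modulo a nil ideal then `g` lies in the cell. -/
theorem Om_of_nil (φ : B →ₐ[R] C) (hsurj : Function.Surjective φ)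
    (hnil : ∀ b, φ b = 0 → IsNilpotent b) {g : 𝒮.G B} (h : 𝒮.Om C (𝒮.map φ g)) : 𝒮.Om B g := by
  obtain ⟨J, hJ, hJ'⟩ := 𝒮.exists_ideal g
  rw [hJ]  at h
  rw [hJ', Ideal.eq_top_iff_one]
  have h1 : (1 : C) ∈ J.map φ.toRingHom := by rw [h]; trivial
  rw [Ideal.mem_map_iff_of_surjective φ.toRingHom hsurj] at h1
  obtain ⟨j, hj, hj1⟩ := h1
  have h2 : IsUnit j := by
    have h3 : IsNilpotent (j - 1) := hnil _ (by
      rw [map_sub, map_one, sub_eq_zero]; exact hj1)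
    have h4 := h3.isUnit_one_add
    rwa [add_sub_cancel] at h4
  exact (Ideal.eq_top_of_isUnit_mem J hj h2).symm ▸ trivial

theorem i_mul (t s : TP M B) : 𝒮.i B (t * s) = 𝒮.i B t * 𝒮.i B s := map_mul _ _ _

theorem i_one : 𝒮.i B (1 : TP M B) = 1 := map_one _

theorem i_comm (t s : TP M B) : 𝒮.i B t * 𝒮.i B s = 𝒮.i B s * 𝒮.i B t :=
  (𝒮.i_mul t s).symm.trans ((congrArg (𝒮.i B) (mul_comm t s)).trans (𝒮.i_mul s t))

theorem i_inv (t : TP M B) : 𝒮.i B (t⁻¹) = (𝒮.i B t)⁻¹ := by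
  apply eq_inv_of_mul_eq_one_left
  exact (𝒮.i_mul t⁻¹ t).symm.trans ((congrArg (𝒮.i B) (inv_mul_cancel t)).trans 𝒮.i_one)

theorem conj_p (t : TP M B) (x : B) :
    𝒮.i B t * 𝒮.p B x * (𝒮.i B t)⁻¹ = 𝒮.p B ((t (Multiplicative.ofAdd 𝒮.m) : B) * x) := by
  rw [𝒮.ip, mul_inv_cancel_right]

theorem conj_q (t : TP M B) (y : B) :
    𝒮.i B t * 𝒮.q B y * (𝒮.i B t)⁻¹ =
      𝒮.q B (((t (Multiplicative.ofAdd 𝒮.m))⁻¹ : Bˣ) * y) := by
  rw [𝒮.iq, mul_inv_cancel_right]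

theorem conj_cell (t s : TP M B) (y x : B) :
    𝒮.i B t * (𝒮.q B y * 𝒮.i B s * 𝒮.p B x) * (𝒮.i B t)⁻¹ =
      𝒮.q B (((t (Multiplicative.ofAdd 𝒮.m))⁻¹ : Bˣ) * y) * 𝒮.i B s *
        𝒮.p B ((t (Multiplicative.ofAdd 𝒮.m) : B) * x) := by
  have h3 := 𝒮.i_comm t s
  rw [← 𝒮.conj_p, ← 𝒮.conj_q]
  calc 𝒮.i B t * (𝒮.q B y * 𝒮.i B s * 𝒮.p B x) * (𝒮.i B t)⁻¹ =
      𝒮.i B t * 𝒮.q B y * (𝒮.i B t)⁻¹ * (𝒮.i B t * 𝒮.i B s) * 𝒮.p B x * (𝒮.i B t)⁻¹ := by group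
    _ = _ := by rw [h3]; group

theorem conj_pq (t : TP M B) (x y : B) :
    𝒮.i B t * (𝒮.p B x * 𝒮.q B y) * (𝒮.i B t)⁻¹ =
      𝒮.p B ((t (Multiplicative.ofAdd 𝒮.m) : B) * x) *
      𝒮.q B (((t (Multiplicative.ofAdd 𝒮.m))⁻¹ : Bˣ) * y) := by
  rw [← 𝒮.conj_p, ← 𝒮.conj_q]
  group

/-- stability of the cell under the torus -/
theorem Om_conj (t : TP M B) {g : 𝒮.G B} (h : 𝒮.Om B g) :
    𝒮.Om B (𝒮.i B t * g * (𝒮.i B t)⁻¹) := by
  obtain ⟨y, s, x, rfl⟩ := h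
  exact ⟨_, s, _, 𝒮.conj_cell t s y x⟩

theorem Om_conj_iff (t : TP M B) {g : 𝒮.G B} :
    𝒮.Om B (𝒮.i B t * g * (𝒮.i B t)⁻¹) ↔ 𝒮.Om B g := by
  refine ⟨fun h => ?_, 𝒮.Om_conj t⟩
  have := 𝒮.Om_conj t⁻¹ h
  rw [𝒮.i_inv] at this
  have h2 : (𝒮.i B t)⁻¹ * (𝒮.i B t * g * (𝒮.i B t)⁻¹) * ((𝒮.i B t)⁻¹)⁻¹ = g := by group
  rwa [h2] at this

/-- the one-parameter subgroup `lam` -/
def cochar (lam : M →+ ℤ) (w : Bˣ) : TP M B where
  toFun n := w ^ lam n.toAdd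
  map_one' := by simp
  map_mul' a b := by rw [toAdd_mul, map_add, zpow_add]

theorem cochar_apply (lam : M →+ ℤ) (w : Bˣ) (n : M) :
    (cochar lam w : TP M B) (Multiplicative.ofAdd n) = w ^ lam n := rfl

/-- `u` such that `p u * q 1` lies in the cell -/
def U (B : Type u) [CommRing B] [Algebra R B] (u : B) : Prop := 𝒮.Om B (𝒮.p B u * 𝒮.q B 1)

theorem map_pq (φ : B →ₐ[R] C) (x y : B) :
    𝒮.map φ (𝒮.p B x * 𝒮.q B y) = 𝒮.p C (φ x) * 𝒮.q C (φ y) := by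
  rw [map_mul, 𝒮.map_p, 𝒮.map_q]

theorem U_map (φ : B →ₐ[R] C) {u : B} (h : 𝒮.U B u) : 𝒮.U C (φ u) := by
  have := 𝒮.Om_map φ h
  rwa [𝒮.map_pq, map_one] at this

/-- Over an algebraically closed field, `p x * q y` is in the cell iff `x * y ∈ U`. -/
theorem Om_pq_iff_field {L : Type u} [Field L] [IsAlgClosed L] [Algebra R L] (lam : M →+ ℤ)
    (hlam : lam 𝒮.m ≠ 0) (x y : L) : 𝒮.Om L (𝒮.p L x * 𝒮.q L y) ↔ 𝒮.U L (x * y) := by
  by_cases hy : y = 0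
  · subst hy
    rw [mul_zero]
    refine iff_of_true ⟨0, 1, x, ?_⟩ ⟨1, 1, 0, ?_⟩
    · rw [𝒮.q_zero, map_one]; group
    · rw [𝒮.p_zero, map_one]; group
  · obtain ⟨w, hw⟩ : ∃ w : Lˣ, w ^ lam 𝒮.m = Units.mk0 y hy := by
      rcases lt_or_gt_of_ne hlam with h | h
      · obtain ⟨z, hz⟩ := IsAlgClosed.exists_pow_nat_eq y⁻¹
          (n := (lam 𝒮.m).natAbs) (by omega)
        have hz0 : z ≠ 0 := by
          rintro rfl
          rw [zero_pow (by omega)] at hz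
          exact inv_ne_zero hy hz.symm
        refine ⟨Units.mk0 z hz0, ?_⟩
        have h1 : lam 𝒮.m = -((lam 𝒮.m).natAbs : ℤ) := by omega
        rw [h1, zpow_neg, zpow_natCast]
        ext
        simp [hz]
      · obtain ⟨z, hz⟩ := IsAlgClosed.exists_pow_nat_eq y
          (n := (lam 𝒮.m).natAbs) (by omega)
        have hz0 : z ≠ 0 := by
          rintro rfl
          rw [zero_pow (by omega)] at hz
          exact hy hz.symm
        refine ⟨Units.mk0 z hz0, ?_⟩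
        have h1 : lam 𝒮.m = ((lam 𝒮.m).natAbs : ℤ) := by omega
        rw [h1, zpow_natCast]
        ext
        simp [hz]
    have key := 𝒮.Om_conj_iff (cochar lam w) (g := 𝒮.p L x * 𝒮.q L y)
    rw [𝒮.conj_pq, cochar_apply, hw] at key
    rw [← key, U]
    simp only [Units.val_mk0, Units.val_inv_eq_inv_val, inv_mul_cancel₀ hy]
    rw [mul_comm y x]

theorem Om_pq_iff (lam : M →+ ℤ) (hlam : lam 𝒮.m ≠ 0) (x y : B) :
    𝒮.Om B (𝒮.p B x * 𝒮.q B y) ↔ 𝒮.U B (x * y) := by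
  constructor
  · intro h
    apply 𝒮.Om_of_algClosed
    intro L _ _ _ φ
    have := 𝒮.Om_map φ h
    rw [𝒮.map_pq, 𝒮.Om_pq_iff_field lam hlam] at this
    rw [𝒮.map_pq, map_one, map_mul]
    exact this
  · intro h
    apply 𝒮.Om_of_algClosed
    intro L _ _ _ φ
    have := 𝒮.U_map φ h
    rwa [𝒮.map_pq, 𝒮.Om_pq_iff_field lam hlam, ← map_mul]

theorem U_zero : 𝒮.U B 0 := ⟨1, 1, 0, by rw [𝒮.p_zero, map_one]; group⟩

/-- nilpotent elements lie in `U`; more generally `U` only depends on the class modulo a nil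
ideal. -/
theorem U_of_nil (φ : B →ₐ[R] C) (hsurj : Function.Surjective φ)
    (hnil : ∀ b, φ b = 0 → IsNilpotent b) {u : B} (h : 𝒮.U C (φ u)) : 𝒮.U B u := by
  apply 𝒮.Om_of_nil φ hsurj hnil
  rwa [𝒮.map_pq, map_one]

theorem U_of_algClosed {u : B}
    (h : ∀ (L : Type u) [Field L] [IsAlgClosed L] [Algebra R L] (φ : B →ₐ[R] L),
      𝒮.U L (φ u)) : 𝒮.U B u := by
  apply 𝒮.Om_of_algClosed
  intro L _ _ _ φ
  rw [𝒮.map_pq, map_one]
  exact h L φ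

end Sys

end Groth.Agent.Sga3.H790.RkSys
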