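import Groth.Agent.Sga3.H790.RkGlue
import Groth.Agent.Sga3.H790.RkMain

/-!
# The rank one system attached to scheme data over an affine scheme with split torus
-/

set_option autoImplicit false
universe u
open CategoryTheory MonoidalCategory CartesianMonoidalCategory MonObj GrpObj AlgebraicGeometry Limits

namespace Groth.Agent.Sga3.H790.RkFam

open Groth.Agent.Sga3B Groth.Agent.Sga3B.DSPts Groth.Agent.Sga3B.GaPts Groth.Agent.Sga3B.InfConj
open Groth.Agent.Sga3.H790.RkSys

section E

variable {S : Scheme.{u}} {R : Type u} [CommRing R] (v : Spec (.of R) ⟶ S)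

/-- `Spec C` over `S`. -/
noncomputable abbrev E (C : Type u) [CommRing C] [Algebra R C] : Over S :=
  (Over.map v).obj (pt R C)

/-- functoriality -/
noncomputable def Emap {C D : Type u} [CommRing C] [Algebra R C] [CommRing D] [Algebra R D]
    (φ : C →ₐ[R] D) : E v D ⟶ E v C := (Over.map v).map (ptMap φ)

lemma Emap_left {C D : Type u} [CommRing C] [Algebra R C] [CommRing D] [Algebra R D]
    (φ : C →ₐ[R] D) : (Emap v φ).left = Spec.map (CommRingCat.ofHom φ.toRingHom) := rfl

lemma Emap_id (C : Type u) [CommRing C] [Algebra R C] : Emap v (AlgHom.id R C) = 𝟙 _ := by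
  rw [Emap, ptMap_id, CategoryTheory.Functor.map_id]

lemma Emap_comp {C D F : Type u} [CommRing C] [Algebra R C] [CommRing D] [Algebra R D]
    [CommRing F] [Algebra R F] (φ : C →ₐ[R] D) (ψ : D →ₐ[R] F) :
    Emap v (ψ.comp φ) = Emap v ψ ≫ Emap v φ := by
  rw [Emap, ← ptMap_comp, CategoryTheory.Functor.map_comp]
  rfl

/-- the structure map -/
noncomputable def Est (C : Type u) [CommRing C] [Algebra R C] : E v C ⟶ Over.mk v :=
  Over.homMk (Spec.map (CommRingCat.ofHom (algebraMap R C))) rfl

lemma Emap_Est {C D : Type u} [CommRing C] [Algebra R C] [CommRing D] [Algebra R D]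
    (φ : C →ₐ[R] D) : Emap v φ ≫ Est v C = Est v D := by
  ext1
  simp only [Over.comp_left, Emap_left, Est, Over.homMk_left, ← Spec.map_comp,
    ← CommRingCat.ofHom_comp]
  congr 2
  exact φ.comp_algebraMap

/-- global functions -/
noncomputable def fn (C : Type u) [CommRing C] [Algebra R C] : C ≃+* Γ((E v C).left, ⊤) :=
  RingEquiv.ofBijective (gPt R C) ⟨DSRigid.gPt_injective C, DSRigid.gPt_surjective C⟩

lemma fn_nat {C D : Type u} [CommRing C] [Algebra R C] [CommRing D] [Algebra R D]
    (φ : C →ₐ[R] D) (c : C) : (Emap v φ).left.appTop (fn v C c) = fn v D (φ c) :=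
  gPt_naturality φ c

/-- points of `𝔾_a` -/
noncomputable def eGa (C : Type u) [CommRing C] [Algebra R C] (x : C) : E v C ⟶ Red.Ga S :=
  gaPt (E v C) (fn v C x)

@[simp] lemma gaFn_eGa (C : Type u) [CommRing C] [Algebra R C] (x : C) :
    Red.gaFn (eGa v C x) = fn v C x := gaFn_gaPt _ _

lemma eGa_add (C : Type u) [CommRing C] [Algebra R C] (x y : C) :
    eGa v C (x + y) = eGa v C x * eGa v C y := by
  rw [eGa, map_add, gaPt_add]; rfl

lemma comp_eGa {C D : Type u} [CommRing C] [Algebra R C] [CommRing D] [Algebra R D]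
    (φ : C →ₐ[R] D) (x : C) : Emap v φ ≫ eGa v C x = eGa v D (φ x) := by
  rw [eGa, comp_gaPt, fn_nat]; rfl

lemma eGa_inj {C : Type u} [CommRing C] [Algebra R C] {x y : C} (h : eGa v C x = eGa v C y) :
    x = y := by
  have := congrArg Red.gaFn h
  rw [gaFn_eGa, gaFn_eGa] at this
  exact (fn v C).injective this

lemma exists_eGa {C : Type u} [CommRing C] [Algebra R C] (x : E v C ⟶ Red.Ga S) :
    ∃ c : C, x = eGa v C c := by
  obtain ⟨c, hc⟩ := (fn v C).surjective (Red.gaFn x)
  exact ⟨c, gaFn_injective _ (by rw [gaFn_eGa, hc])⟩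

/-- the units of functions given by a point of `D(M)` -/
noncomputable def fnHom {M : Type} [AddCommGroup M] (C : Type u) [CommRing C] [Algebra R C]
    (t : TP M C) : Multiplicative M →* Γ((E v C).left, ⊤) :=
  ((fn v C).toRingHom.toMonoidHom.comp (Units.coeHom C)).comp t

/-- points of `D(M)` -/
noncomputable def eD {M : Type} [AddCommGroup M] (C : Type u) [CommRing C] [Algebra R C]
    (t : TP M C) : E v C ⟶ Red.DS S M :=
  dsEquiv (E v C) M (fnHom v C t)

lemma eD_mul {M : Type} [AddCommGroup M] (C : Type u) [CommRing C] [Algebra R C] (t t' : TP M C) :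
    eD v C (t * t') = eD v C t * eD v C t' := by
  rw [eD, eD, eD, ← map_mul]
  congr 1
  ext m
  simp [fnHom]

lemma comp_eD {M : Type} [AddCommGroup M] {C D : Type u} [CommRing C] [Algebra R C] [CommRing D]
    [Algebra R D] (φ : C →ₐ[R] D) (t : TP M C) :
    Emap v φ ≫ eD v C t = eD v D (TP.map φ.toRingHom t) := by
  rw [eD, dsEquiv_naturality, eD]
  congr 1
  ext m
  exact fn_nat v φ _

lemma eD_inj {M : Type} [AddCommGroup M] {C : Type u} [CommRing C] [Algebra R C] {t t' : TP M C}
    (h : eD v C t = eD v C t') : t = t' := by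
  have h1 := (dsEquiv _ M).injective h
  ext m
  have h2 : fnHom v C t m = fnHom v C t' m := by rw [h1]
  exact (fn v C).injective h2

lemma exists_eD {M : Type} [AddCommGroup M] {C : Type u} [CommRing C] [Algebra R C]
    (d : E v C ⟶ Red.DS S M) : ∃ t : TP M C, d = eD v C t := by
  let χ : Multiplicative M →* C := ((fn v C).symm.toRingHom.toMonoidHom).comp (dsChar d)
  refine ⟨χ.toHomUnits, ?_⟩
  rw [← dsEquiv_dsChar d, eD]
  congr 1
  ext m
  change dsChar d m = fn v C ((fn v C).symm (dsChar d m))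
  rw [RingEquiv.apply_symm_apply]

end E

end Groth.Agent.Sga3.H790.RkFam
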