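import Groth.Agent.Sga3.H790.RkSplit

/-!
# The rank one system attached to scheme data over an affine scheme with split torus, II
-/

set_option autoImplicit false
universe u
open CategoryTheory MonoidalCategory CartesianMonoidalCategory MonObj GrpObj AlgebraicGeometry Limits

namespace Groth.Agent.Sga3.H790.RkFam

open Groth.Agent.Sga3B Groth.Agent.Sga3B.DSPts Groth.Agent.Sga3B.GaPts Groth.Agent.Sga3B.InfConj
open Groth.Agent.Sga3.H790.RkSys

/-- A splitting of `T` over `v : Spec R ⟶ S`, for which `α` is the character `m`. -/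
structure Spl {S : Scheme.{u}} {R : Type u} [CommRing R] (v : Spec (.of R) ⟶ S)
    {T : Over S} [GrpObj T] (α : T ⟶ Red.Gm S) (M : Type) [AddCommGroup M] where
  /-- trivialisation -/
  σ : T ⊗ Over.mk v ⟶ Red.DS S M
  /-- inverse -/
  ρ : Red.DS S M ⊗ Over.mk v ⟶ T
  σ_mul : ∀ (Y : Over S) (x y : Y ⟶ T) (t : Y ⟶ Over.mk v),
    lift (x * y) t ≫ σ = (lift x t ≫ σ) * (lift y t ≫ σ)
  σρ : ∀ (Y : Over S) (x : Y ⟶ T) (t : Y ⟶ Over.mk v), lift (lift x t ≫ σ) t ≫ ρ = x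
  ρσ : ∀ (Y : Over S) (y : Y ⟶ Red.DS S M) (t : Y ⟶ Over.mk v), lift (lift y t ≫ ρ) t ≫ σ = y
  /-- the character -/
  m : M
  hm : ∀ (Y : Over S) (y : Y ⟶ Red.DS S M) (t : Y ⟶ Over.mk v), lift y t ≫ ρ ≫ α = y ≫ Red.chi S m

section

variable {S : Scheme.{u}} {R : Type u} [CommRing R] {v : Spec (.of R) ⟶ S}
  {G T : Over S} [GrpObj G] [GrpObj T] {i : T ⟶ G} {α : T ⟶ Red.Gm S} {pp pm : Red.Ga S ⟶ G}
  {M : Type} [AddCommGroup M]

lemma Spl.ρ_mul (s : Spl v α M) {Y : Over S} (x y : Y ⟶ Red.DS S M) (t : Y ⟶ Over.mk v) :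
    lift (x * y) t ≫ s.ρ = (lift x t ≫ s.ρ) * (lift y t ≫ s.ρ) := by
  have h := s.σ_mul Y (lift x t ≫ s.ρ) (lift y t ≫ s.ρ) t
  rw [s.ρσ, s.ρσ] at h
  rw [← h, s.σρ]

lemma Spl.ρ_inj (s : Spl v α M) {Y : Over S} {x y : Y ⟶ Red.DS S M} {t : Y ⟶ Over.mk v}
    (h : lift x t ≫ s.ρ = lift y t ≫ s.ρ) : x = y := by
  rw [← s.ρσ Y x t, h, s.ρσ]

omit [GrpObj T] in
lemma om_iff_range [IsOpenImmersion (Om i pp pm).left] {Y : Over S} (g : Y ⟶ G) :
    (∃ w, w ≫ Om i pp pm = g) ↔ Set.range g.left ⊆ Set.range (Om i pp pm).left := by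
  constructor
  · rintro ⟨w, rfl⟩
    rintro _ ⟨y, rfl⟩
    exact ⟨w.left y, rfl⟩
  · intro h
    refine ⟨Over.homMk (IsOpenImmersion.lift (Om i pp pm).left g.left h) ?_, ?_⟩
    · rw [← Over.w (Om i pp pm), IsOpenImmersion.lift_fac_assoc, Over.w]
    · ext1
      exact IsOpenImmersion.lift_fac _ _ _

omit [GrpObj T] in
lemma exists_ideal [IsOpenImmersion (Om i pp pm).left] (B : Type u) [CommRing B] [Algebra R B]
    (g : E v B ⟶ G) : ∃ J : Ideal B, ∀ (C : Type u) [CommRing C] [Algebra R C] (φ : B →ₐ[R] C),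
      (∃ w, w ≫ Om i pp pm = Emap v φ ≫ g) ↔ J.map φ.toRingHom = ⊤ := by
  let U : Set (PrimeSpectrum B) := g.left.base ⁻¹' (Set.range (Om i pp pm).left)
  have hU : IsOpen U :=
    (Scheme.Hom.isOpenEmbedding (Om i pp pm).left).isOpen_range.preimage g.left.continuous
  let J : Ideal B := PrimeSpectrum.vanishingIdeal Uᶜ
  have hJ : PrimeSpectrum.zeroLocus (J : Set B) = Uᶜ := by
    rw [PrimeSpectrum.zeroLocus_vanishingIdeal_eq_closure, hU.isClosed_compl.closure_eq]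
  refine ⟨J, ?_⟩
  intro C _ _ φ
  rw [om_iff_range]
  have h1 : Set.range (Emap v φ ≫ g).left ⊆ Set.range (Om i pp pm).left ↔
      ∀ q : PrimeSpectrum C, PrimeSpectrum.comap φ.toRingHom q ∈ U := by
    constructor
    · intro h q
      exact h ⟨q, rfl⟩
    · rintro h _ ⟨q, rfl⟩
      exact h q
  rw [h1]
  constructor
  · intro h
    by_contra hne
    obtain ⟨q, hq, hle⟩ := Ideal.exists_le_maximal _ hne
    have h2 : PrimeSpectrum.comap φ.toRingHom ⟨q, hq.isPrime⟩ ∈ PrimeSpectrum.zeroLocus (J : Set B) :=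
      Ideal.map_le_iff_le_comap.mp hle
    rw [hJ] at h2
    exact h2 (h _)
  · intro h q
    by_contra hq
    have h2 : PrimeSpectrum.comap φ.toRingHom q ∈ PrimeSpectrum.zeroLocus (J : Set B) := by
      rw [hJ]; exact hq
    have h3 : J.map φ.toRingHom ≤ q.asIdeal := Ideal.map_le_iff_le_comap.mpr h2
    rw [h] at h3
    exact q.isPrime.ne_top (top_le_iff.mp h3)

variable (i pp pm) in
/-- the torus in `G` -/
noncomputable def eT (s : Spl v α M) (C : Type u) [CommRing C] [Algebra R C] (t : TP M C) :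
    E v C ⟶ T := lift (eD v C t) (Est v C) ≫ s.ρ

lemma eT_mul (s : Spl v α M) (C : Type u) [CommRing C] [Algebra R C] (t t' : TP M C) :
    eT s C (t * t') = eT s C t * eT s C t' := by
  rw [eT, eD_mul, s.ρ_mul]; rfl

lemma comp_eT (s : Spl v α M) {C D : Type u} [CommRing C] [Algebra R C] [CommRing D]
    [Algebra R D] (φ : C →ₐ[R] D) (t : TP M C) :
    Emap v φ ≫ eT s C t = eT s D (TP.map φ.toRingHom t) := by
  rw [eT, ← Category.assoc, comp_lift, comp_eD, Emap_Est]; rfl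

lemma eT_inj (s : Spl v α M) {C : Type u} [CommRing C] [Algebra R C] {t t' : TP M C}
    (h : eT s C t = eT s C t') : t = t' :=
  eD_inj v (s.ρ_inj h)

lemma exists_eT (s : Spl v α M) {C : Type u} [CommRing C] [Algebra R C] (x : E v C ⟶ T) :
    ∃ t : TP M C, x = eT s C t := by
  obtain ⟨t, ht⟩ := exists_eD v (lift x (Est v C) ≫ s.σ)
  exact ⟨t, by rw [eT, ← ht, s.σρ]⟩

lemma gmFn_eT (s : Spl v α M) (C : Type u) [CommRing C] [Algebra R C] (t : TP M C) :
    Red.gmFn (eT s C t ≫ α) = fn v C (t (Multiplicative.ofAdd s.m) : C) := by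
  rw [eT, Category.assoc, s.hm, gmFn_chi, eD, dsChar_dsEquiv]
  rfl

end

section sys

variable {S : Scheme.{u}} {R : Type u} [CommRing R] {v : Spec (.of R) ⟶ S}
  {G T : Over S} [GrpObj G] [GrpObj T] (i : T ⟶ G) [IsMonHom i] {α : T ⟶ Red.Gm S}
  (pp pm : Red.Ga S ⟶ G) [IsMonHom pp] [IsMonHom pm]
  {M : Type} [AddCommGroup M]

/-- The rank one system. -/
noncomputable def sysOf [IsOpenImmersion (Om i pp pm).left] (s : Spl v α M)
    (hpp : ∀ (X : Over S) (t : X ⟶ T) (x : X ⟶ Red.Ga S), ∃ x' : X ⟶ Red.Ga S,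
      x' ≫ pp = (t ≫ i) * (x ≫ pp) * (t ≫ i)⁻¹ ∧ Red.gaFn x' = Red.gmFn (t ≫ α) * Red.gaFn x)
    (hpm : ∀ (X : Over S) (t : X ⟶ T) (y : X ⟶ Red.Ga S), ∃ y' : X ⟶ Red.Ga S,
      y' ≫ pm = (t ≫ i) * (y ≫ pm) * (t ≫ i)⁻¹ ∧ Red.gaFn y' * Red.gmFn (t ≫ α) = Red.gaFn y) :
    Sys R M where
  G C _ _ := E v C ⟶ G
  grp C _ _ := inferInstance
  map φ :=
    { toFun := fun g => Emap v φ ≫ g
      map_one' := MonObj.comp_one _
      map_mul' := fun g h => MonObj.comp_mul _ _ _ }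
  map_id {C _ _} g := by
    change Emap v (AlgHom.id R C) ≫ g = g
    rw [Emap_id, Category.id_comp]
  map_comp φ ψ g := by
    change Emap v (ψ.comp φ) ≫ g = Emap v ψ ≫ Emap v φ ≫ g
    rw [Emap_comp, Category.assoc]
  p C _ _ x := eGa v C x ≫ pp
  q C _ _ x := eGa v C x ≫ pm
  i C _ _ := MonoidHom.mk' (fun t => eT s C t ≫ i) fun t t' => by
    rw [eT_mul]; exact MonObj.mul_comp _ _ i
  p_add C _ _ x x' := by rw [eGa_add]; exact MonObj.mul_comp _ _ pp
  q_add C _ _ x x' := by rw [eGa_add]; exact MonObj.mul_comp _ _ pm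
  map_p φ x := by
    change Emap v φ ≫ eGa v _ x ≫ pp = eGa v _ (φ x) ≫ pp
    rw [← Category.assoc, comp_eGa]
  map_q φ x := by
    change Emap v φ ≫ eGa v _ x ≫ pm = eGa v _ (φ x) ≫ pm
    rw [← Category.assoc, comp_eGa]
  map_i φ t := by
    change Emap v φ ≫ eT s _ t ≫ i = eT s _ _ ≫ i
    rw [← Category.assoc, comp_eT]
  m := s.m
  ip C _ _ t x := by
    change (eT s C t ≫ i) * (eGa v C x ≫ pp) = (eGa v C _ ≫ pp) * (eT s C t ≫ i)
    obtain ⟨x', h1, h2⟩ := hpp _ (eT s C t) (eGa v C x)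
    have h3 : x' = eGa v C ((t (Multiplicative.ofAdd s.m) : C) * x) := by
      apply gaFn_injective
      rw [h2, gaFn_eGa, gaFn_eGa, map_mul, gmFn_eT]
    rw [← h3, h1, inv_mul_cancel_right]
  iq C _ _ t x := by
    change (eT s C t ≫ i) * (eGa v C x ≫ pm) = (eGa v C _ ≫ pm) * (eT s C t ≫ i)
    obtain ⟨x', h1, h2⟩ := hpm _ (eT s C t) (eGa v C x)
    have h3 : x' = eGa v C (((t (Multiplicative.ofAdd s.m))⁻¹ : Cˣ) * x) := by
      apply gaFn_injective
      rw [gmFn_eT, gaFn_eGa] at h2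
      rw [gaFn_eGa, map_mul, ← h2, mul_comm (Red.gaFn x'), ← _root_.mul_assoc, ← map_mul,
        Units.inv_mul, map_one, _root_.one_mul]
    rw [← h3, h1, inv_mul_cancel_right]
  cell_inj C _ _ y y' t t' x x' h := by
    have : Mono (Om i pp pm) := by
      have : Mono ((Over.forget S).map (Om i pp pm)) := by
        change Mono (Om i pp pm).left
        infer_instance
      exact (Over.forget S).mono_of_mono_map this
    obtain ⟨h1, h2, h3⟩ := cell_unique h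
    exact ⟨eGa_inj v h1, eT_inj s h2, eGa_inj v h3⟩
  isOpen B _ _ g := by
    obtain ⟨J, hJ⟩ := exists_ideal (i := i) (pp := pp) (pm := pm) B g
    refine ⟨J, fun C _ _ φ => ?_⟩
    rw [← hJ]
    constructor
    · rintro ⟨y, t, x, h⟩
      refine ⟨lift (lift (eGa v C y) (eT s C t)) (eGa v C x), ?_⟩
      rw [lift_Om]
      exact h.symm
    · rintro ⟨w, hw⟩
      obtain ⟨y, hy⟩ := exists_eGa v (w ≫ fst _ _ ≫ fst _ _)
      obtain ⟨t, ht⟩ := exists_eT s (w ≫ fst _ _ ≫ snd _ _)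
      obtain ⟨x, hx⟩ := exists_eGa v (w ≫ snd _ _)
      refine ⟨y, t, x, ?_⟩
      have : w = lift (lift (eGa v C y) (eT s C t)) (eGa v C x) := by
        rw [← hy, ← ht, ← hx]
        apply CartesianMonoidalCategory.hom_ext
        · apply CartesianMonoidalCategory.hom_ext
          · simp
          · simp
        · simp
      rw [this, lift_Om] at hw
      exact hw.symm

end sys

end Groth.Agent.Sga3.H790.RkFam
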