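import Mathlib.RingTheory.Ideal.Maps
import Mathlib.RingTheory.Ideal.Operations
import Mathlib.RingTheory.Localization.Away.Basic
import Mathlib.Algebra.Algebra.Hom
import Mathlib.FieldTheory.IsAlgClosed.Basic
import Mathlib.RingTheory.Spectrum.Prime.Basic

/-!
# Rank one systems (functor of points version of SGA 3 XX 2.1)

`Sys R M`: a group functor `G` on commutative `R`-algebras with homomorphisms `p, q : 𝔾_a → G`,
`i : D(M) → G`, a character `m ∈ M` acting on `p` by `m` and on `q` by `-m`, and such that
`(y, t, x) ↦ q y * i t * p x` is an "open immersion".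
-/

set_option autoImplicit false

universe u

namespace Groth.Agent.Sga3.H790.RkSys

/-- Points of the diagonalisable group `D(M)`. -/
abbrev TP (M : Type) [AddCommGroup M] (B : Type u) [CommRing B] := Multiplicative M →* Bˣ

/-- functoriality -/
def TP.map {M : Type} [AddCommGroup M] {B C : Type u} [CommRing B] [CommRing C] (φ : B →+* C)
    (t : TP M B) : TP M C := (Units.map φ.toMonoidHom).comp t

/-- A rank one system. -/
structure Sys (R : Type u) [CommRing R] (M : Type) [AddCommGroup M] where
  /-- the group functor -/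
  G : ∀ (B : Type u) [CommRing B] [Algebra R B], Type u
  /-- its group structure -/
  [grp : ∀ (B : Type u) [CommRing B] [Algebra R B], Group (G B)]
  /-- functoriality -/
  map : ∀ {B C : Type u} [CommRing B] [Algebra R B] [CommRing C] [Algebra R C] (_ : B →ₐ[R] C),
    G B →* G C
  map_id : ∀ {B : Type u} [CommRing B] [Algebra R B] (g : G B), map (AlgHom.id R B) g = g
  map_comp : ∀ {B C D : Type u} [CommRing B] [Algebra R B] [CommRing C] [Algebra R C]
    [CommRing D] [Algebra R D] (φ : B →ₐ[R] C) (ψ : C →ₐ[R] D) (g : G B),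
    map (ψ.comp φ) g = map ψ (map φ g)
  /-- the positive root group -/
  p : ∀ (B : Type u) [CommRing B] [Algebra R B], B → G B
  /-- the negative root group -/
  q : ∀ (B : Type u) [CommRing B] [Algebra R B], B → G B
  /-- the torus -/
  i : ∀ (B : Type u) [CommRing B] [Algebra R B], TP M B →* G B
  p_add : ∀ (B : Type u) [CommRing B] [Algebra R B] (x x' : B), p B (x + x') = p B x * p B x'
  q_add : ∀ (B : Type u) [CommRing B] [Algebra R B] (x x' : B), q B (x + x') = q B x * q B x'
  map_p : ∀ {B C : Type u} [CommRing B] [Algebra R B] [CommRing C] [Algebra R C] (φ : B →ₐ[R] C)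
    (x : B), map φ (p B x) = p C (φ x)
  map_q : ∀ {B C : Type u} [CommRing B] [Algebra R B] [CommRing C] [Algebra R C] (φ : B →ₐ[R] C)
    (x : B), map φ (q B x) = q C (φ x)
  map_i : ∀ {B C : Type u} [CommRing B] [Algebra R B] [CommRing C] [Algebra R C] (φ : B →ₐ[R] C)
    (t : TP M B), map φ (i B t) = i C (TP.map φ.toRingHom t)
  /-- the character `α` -/
  m : M
  ip : ∀ (B : Type u) [CommRing B] [Algebra R B] (t : TP M B) (x : B),
    i B t * p B x = p B ((t (Multiplicative.ofAdd m) : B) * x) * i B t
  iq : ∀ (B : Type u) [CommRing B] [Algebra R B] (t : TP M B) (y : B),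
    i B t * q B y = q B (((t (Multiplicative.ofAdd m))⁻¹ : Bˣ) * y) * i B t
  cell_inj : ∀ (B : Type u) [CommRing B] [Algebra R B] (y y' : B) (t t' : TP M B) (x x' : B),
    q B y * i B t * p B x = q B y' * i B t' * p B x' → y = y' ∧ t = t' ∧ x = x'
  /-- the cell is open in `G` -/
  isOpen : ∀ (B : Type u) [CommRing B] [Algebra R B] (g : G B), ∃ J : Ideal B,
    ∀ (C : Type u) [CommRing C] [Algebra R C] (φ : B →ₐ[R] C),
      (∃ y t x, map φ g = q C y * i C t * p C x) ↔ J.map φ.toRingHom = ⊤

attribute [instance] Sys.grp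

variable {R : Type u} [CommRing R] {M : Type} [AddCommGroup M] (𝒮 : Sys R M)

/-- The big cell. -/
def Sys.Om (B : Type u) [CommRing B] [Algebra R B] (g : 𝒮.G B) : Prop :=
  ∃ y t x, g = 𝒮.q B y * 𝒮.i B t * 𝒮.p B x

end Groth.Agent.Sga3.H790.RkSys
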